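import Cfsg.Agent.Lib.CosetTable.Sound
import Cfsg.Agent.Lib.CosetTable.ON122760.Data

/-! Generated certificate data for the coset table `ON122760`. -/

namespace Cfsg.Agent.Lib.CosetTable.ON122760

open Cfsg.Agent.Lib.CosetTable

set_option Elab.async false
set_option maxRecDepth 10000

theorem fix_ok_run641 : rangeAll (tab.fixOK cert.rels) 128 81920 = true := by decide +kernel

theorem fix_ok_run642 : rangeAll (tab.fixOK cert.rels) 128 82048 = true := by decide +kernel

theorem fix_ok_run643 : rangeAll (tab.fixOK cert.rels) 128 82176 = true := by decide +kernel

theorem fix_ok_run644 : rangeAll (tab.fixOK cert.rels) 128 82304 = true := by decide +kernel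

theorem fix_ok_run645 : rangeAll (tab.fixOK cert.rels) 128 82432 = true := by decide +kernel

theorem fix_ok_run646 : rangeAll (tab.fixOK cert.rels) 128 82560 = true := by decide +kernel

theorem fix_ok_run647 : rangeAll (tab.fixOK cert.rels) 128 82688 = true := by decide +kernel

theorem fix_ok_run648 : rangeAll (tab.fixOK cert.rels) 128 82816 = true := by decide +kernel

theorem fix_ok_run649 : rangeAll (tab.fixOK cert.rels) 128 82944 = true := by decide +kernel

theorem fix_ok_run650 : rangeAll (tab.fixOK cert.rels) 128 83072 = true := by decide +kernel

theorem fix_ok_run651 : rangeAll (tab.fixOK cert.rels) 128 83200 = true := by decide +kernel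

theorem fix_ok_run652 : rangeAll (tab.fixOK cert.rels) 128 83328 = true := by decide +kernel

theorem fix_ok_run653 : rangeAll (tab.fixOK cert.rels) 128 83456 = true := by decide +kernel

theorem fix_ok_run654 : rangeAll (tab.fixOK cert.rels) 128 83584 = true := by decide +kernel

theorem fix_ok_run655 : rangeAll (tab.fixOK cert.rels) 128 83712 = true := by decide +kernel

theorem fix_ok_run656 : rangeAll (tab.fixOK cert.rels) 128 83840 = true := by decide +kernel

theorem fix_ok_run657 : rangeAll (tab.fixOK cert.rels) 128 83968 = true := by decide +kernel

theorem fix_ok_run658 : rangeAll (tab.fixOK cert.rels) 128 84096 = true := by decide +kernel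

theorem fix_ok_run659 : rangeAll (tab.fixOK cert.rels) 128 84224 = true := by decide +kernel

theorem fix_ok_run660 : rangeAll (tab.fixOK cert.rels) 128 84352 = true := by decide +kernel

theorem fix_ok_run661 : rangeAll (tab.fixOK cert.rels) 128 84480 = true := by decide +kernel

theorem fix_ok_run662 : rangeAll (tab.fixOK cert.rels) 128 84608 = true := by decide +kernel

theorem fix_ok_run663 : rangeAll (tab.fixOK cert.rels) 128 84736 = true := by decide +kernel

theorem fix_ok_run664 : rangeAll (tab.fixOK cert.rels) 128 84864 = true := by decide +kernel

theorem fix_ok_run665 : rangeAll (tab.fixOK cert.rels) 128 84992 = true := by decide +kernel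

theorem fix_ok_run666 : rangeAll (tab.fixOK cert.rels) 128 85120 = true := by decide +kernel

theorem fix_ok_run667 : rangeAll (tab.fixOK cert.rels) 128 85248 = true := by decide +kernel

theorem fix_ok_run668 : rangeAll (tab.fixOK cert.rels) 128 85376 = true := by decide +kernel

theorem fix_ok_run669 : rangeAll (tab.fixOK cert.rels) 128 85504 = true := by decide +kernel

theorem fix_ok_run670 : rangeAll (tab.fixOK cert.rels) 128 85632 = true := by decide +kernel

theorem fix_ok_run671 : rangeAll (tab.fixOK cert.rels) 128 85760 = true := by decide +kernel

theorem fix_ok_run672 : rangeAll (tab.fixOK cert.rels) 128 85888 = true := by decide +kernel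

theorem fix_ok_run673 : rangeAll (tab.fixOK cert.rels) 128 86016 = true := by decide +kernel

theorem fix_ok_run674 : rangeAll (tab.fixOK cert.rels) 128 86144 = true := by decide +kernel

theorem fix_ok_run675 : rangeAll (tab.fixOK cert.rels) 128 86272 = true := by decide +kernel

theorem fix_ok_run676 : rangeAll (tab.fixOK cert.rels) 128 86400 = true := by decide +kernel

theorem fix_ok_run677 : rangeAll (tab.fixOK cert.rels) 128 86528 = true := by decide +kernel

theorem fix_ok_run678 : rangeAll (tab.fixOK cert.rels) 128 86656 = true := by decide +kernel

theorem fix_ok_run679 : rangeAll (tab.fixOK cert.rels) 128 86784 = true := by decide +kernel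

theorem fix_ok_run680 : rangeAll (tab.fixOK cert.rels) 128 86912 = true := by decide +kernel

theorem fix_ok_run681 : rangeAll (tab.fixOK cert.rels) 128 87040 = true := by decide +kernel

theorem fix_ok_run682 : rangeAll (tab.fixOK cert.rels) 128 87168 = true := by decide +kernel

theorem fix_ok_run683 : rangeAll (tab.fixOK cert.rels) 128 87296 = true := by decide +kernel

theorem fix_ok_run684 : rangeAll (tab.fixOK cert.rels) 128 87424 = true := by decide +kernel

theorem fix_ok_run685 : rangeAll (tab.fixOK cert.rels) 128 87552 = true := by decide +kernel

theorem fix_ok_run686 : rangeAll (tab.fixOK cert.rels) 128 87680 = true := by decide +kernel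

theorem fix_ok_run687 : rangeAll (tab.fixOK cert.rels) 128 87808 = true := by decide +kernel

theorem fix_ok_run688 : rangeAll (tab.fixOK cert.rels) 128 87936 = true := by decide +kernel

theorem fix_ok_run689 : rangeAll (tab.fixOK cert.rels) 128 88064 = true := by decide +kernel

theorem fix_ok_run690 : rangeAll (tab.fixOK cert.rels) 128 88192 = true := by decide +kernel

theorem fix_ok_run691 : rangeAll (tab.fixOK cert.rels) 128 88320 = true := by decide +kernel

theorem fix_ok_run692 : rangeAll (tab.fixOK cert.rels) 128 88448 = true := by decide +kernel

theorem fix_ok_run693 : rangeAll (tab.fixOK cert.rels) 128 88576 = true := by decide +kernel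

theorem fix_ok_run694 : rangeAll (tab.fixOK cert.rels) 128 88704 = true := by decide +kernel

theorem fix_ok_run695 : rangeAll (tab.fixOK cert.rels) 128 88832 = true := by decide +kernel

theorem fix_ok_run696 : rangeAll (tab.fixOK cert.rels) 128 88960 = true := by decide +kernel

theorem fix_ok_run697 : rangeAll (tab.fixOK cert.rels) 128 89088 = true := by decide +kernel

theorem fix_ok_run698 : rangeAll (tab.fixOK cert.rels) 128 89216 = true := by decide +kernel

theorem fix_ok_run699 : rangeAll (tab.fixOK cert.rels) 128 89344 = true := by decide +kernel

theorem fix_ok_run700 : rangeAll (tab.fixOK cert.rels) 128 89472 = true := by decide +kernel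

theorem fix_ok_run701 : rangeAll (tab.fixOK cert.rels) 128 89600 = true := by decide +kernel

theorem fix_ok_run702 : rangeAll (tab.fixOK cert.rels) 128 89728 = true := by decide +kernel

theorem fix_ok_run703 : rangeAll (tab.fixOK cert.rels) 128 89856 = true := by decide +kernel

theorem fix_ok_run704 : rangeAll (tab.fixOK cert.rels) 128 89984 = true := by decide +kernel

end Cfsg.Agent.Lib.CosetTable.ON122760
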