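import Cfsg.Agent.Lib.CosetTable.Sound
import Cfsg.Agent.Lib.CosetTable.ON122760.Data

/-! Generated certificate data for the coset table `ON122760`. -/

namespace Cfsg.Agent.Lib.CosetTable.ON122760

open Cfsg.Agent.Lib.CosetTable

set_option Elab.async false
set_option maxRecDepth 10000

theorem fix_ok_run705 : rangeAll (tab.fixOK cert.rels) 128 90112 = true := by decide +kernel

theorem fix_ok_run706 : rangeAll (tab.fixOK cert.rels) 128 90240 = true := by decide +kernel

theorem fix_ok_run707 : rangeAll (tab.fixOK cert.rels) 128 90368 = true := by decide +kernel

theorem fix_ok_run708 : rangeAll (tab.fixOK cert.rels) 128 90496 = true := by decide +kernel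

theorem fix_ok_run709 : rangeAll (tab.fixOK cert.rels) 128 90624 = true := by decide +kernel

theorem fix_ok_run710 : rangeAll (tab.fixOK cert.rels) 128 90752 = true := by decide +kernel

theorem fix_ok_run711 : rangeAll (tab.fixOK cert.rels) 128 90880 = true := by decide +kernel

theorem fix_ok_run712 : rangeAll (tab.fixOK cert.rels) 128 91008 = true := by decide +kernel

theorem fix_ok_run713 : rangeAll (tab.fixOK cert.rels) 128 91136 = true := by decide +kernel

theorem fix_ok_run714 : rangeAll (tab.fixOK cert.rels) 128 91264 = true := by decide +kernel

theorem fix_ok_run715 : rangeAll (tab.fixOK cert.rels) 128 91392 = true := by decide +kernel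

theorem fix_ok_run716 : rangeAll (tab.fixOK cert.rels) 128 91520 = true := by decide +kernel

theorem fix_ok_run717 : rangeAll (tab.fixOK cert.rels) 128 91648 = true := by decide +kernel

theorem fix_ok_run718 : rangeAll (tab.fixOK cert.rels) 128 91776 = true := by decide +kernel

theorem fix_ok_run719 : rangeAll (tab.fixOK cert.rels) 128 91904 = true := by decide +kernel

theorem fix_ok_run720 : rangeAll (tab.fixOK cert.rels) 128 92032 = true := by decide +kernel

theorem fix_ok_run721 : rangeAll (tab.fixOK cert.rels) 128 92160 = true := by decide +kernel

theorem fix_ok_run722 : rangeAll (tab.fixOK cert.rels) 128 92288 = true := by decide +kernel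

theorem fix_ok_run723 : rangeAll (tab.fixOK cert.rels) 128 92416 = true := by decide +kernel

theorem fix_ok_run724 : rangeAll (tab.fixOK cert.rels) 128 92544 = true := by decide +kernel

theorem fix_ok_run725 : rangeAll (tab.fixOK cert.rels) 128 92672 = true := by decide +kernel

theorem fix_ok_run726 : rangeAll (tab.fixOK cert.rels) 128 92800 = true := by decide +kernel

theorem fix_ok_run727 : rangeAll (tab.fixOK cert.rels) 128 92928 = true := by decide +kernel

theorem fix_ok_run728 : rangeAll (tab.fixOK cert.rels) 128 93056 = true := by decide +kernel

theorem fix_ok_run729 : rangeAll (tab.fixOK cert.rels) 128 93184 = true := by decide +kernel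

theorem fix_ok_run730 : rangeAll (tab.fixOK cert.rels) 128 93312 = true := by decide +kernel

theorem fix_ok_run731 : rangeAll (tab.fixOK cert.rels) 128 93440 = true := by decide +kernel

theorem fix_ok_run732 : rangeAll (tab.fixOK cert.rels) 128 93568 = true := by decide +kernel

theorem fix_ok_run733 : rangeAll (tab.fixOK cert.rels) 128 93696 = true := by decide +kernel

theorem fix_ok_run734 : rangeAll (tab.fixOK cert.rels) 128 93824 = true := by decide +kernel

theorem fix_ok_run735 : rangeAll (tab.fixOK cert.rels) 128 93952 = true := by decide +kernel

theorem fix_ok_run736 : rangeAll (tab.fixOK cert.rels) 128 94080 = true := by decide +kernel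

theorem fix_ok_run737 : rangeAll (tab.fixOK cert.rels) 128 94208 = true := by decide +kernel

theorem fix_ok_run738 : rangeAll (tab.fixOK cert.rels) 128 94336 = true := by decide +kernel

theorem fix_ok_run739 : rangeAll (tab.fixOK cert.rels) 128 94464 = true := by decide +kernel

theorem fix_ok_run740 : rangeAll (tab.fixOK cert.rels) 128 94592 = true := by decide +kernel

theorem fix_ok_run741 : rangeAll (tab.fixOK cert.rels) 128 94720 = true := by decide +kernel

theorem fix_ok_run742 : rangeAll (tab.fixOK cert.rels) 128 94848 = true := by decide +kernel

theorem fix_ok_run743 : rangeAll (tab.fixOK cert.rels) 128 94976 = true := by decide +kernel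

theorem fix_ok_run744 : rangeAll (tab.fixOK cert.rels) 128 95104 = true := by decide +kernel

theorem fix_ok_run745 : rangeAll (tab.fixOK cert.rels) 128 95232 = true := by decide +kernel

theorem fix_ok_run746 : rangeAll (tab.fixOK cert.rels) 128 95360 = true := by decide +kernel

theorem fix_ok_run747 : rangeAll (tab.fixOK cert.rels) 128 95488 = true := by decide +kernel

theorem fix_ok_run748 : rangeAll (tab.fixOK cert.rels) 128 95616 = true := by decide +kernel

theorem fix_ok_run749 : rangeAll (tab.fixOK cert.rels) 128 95744 = true := by decide +kernel

theorem fix_ok_run750 : rangeAll (tab.fixOK cert.rels) 128 95872 = true := by decide +kernel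

theorem fix_ok_run751 : rangeAll (tab.fixOK cert.rels) 128 96000 = true := by decide +kernel

theorem fix_ok_run752 : rangeAll (tab.fixOK cert.rels) 128 96128 = true := by decide +kernel

theorem fix_ok_run753 : rangeAll (tab.fixOK cert.rels) 128 96256 = true := by decide +kernel

theorem fix_ok_run754 : rangeAll (tab.fixOK cert.rels) 128 96384 = true := by decide +kernel

theorem fix_ok_run755 : rangeAll (tab.fixOK cert.rels) 128 96512 = true := by decide +kernel

theorem fix_ok_run756 : rangeAll (tab.fixOK cert.rels) 128 96640 = true := by decide +kernel

theorem fix_ok_run757 : rangeAll (tab.fixOK cert.rels) 128 96768 = true := by decide +kernel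

theorem fix_ok_run758 : rangeAll (tab.fixOK cert.rels) 128 96896 = true := by decide +kernel

theorem fix_ok_run759 : rangeAll (tab.fixOK cert.rels) 128 97024 = true := by decide +kernel

theorem fix_ok_run760 : rangeAll (tab.fixOK cert.rels) 128 97152 = true := by decide +kernel

theorem fix_ok_run761 : rangeAll (tab.fixOK cert.rels) 128 97280 = true := by decide +kernel

theorem fix_ok_run762 : rangeAll (tab.fixOK cert.rels) 128 97408 = true := by decide +kernel

theorem fix_ok_run763 : rangeAll (tab.fixOK cert.rels) 128 97536 = true := by decide +kernel

theorem fix_ok_run764 : rangeAll (tab.fixOK cert.rels) 128 97664 = true := by decide +kernel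

theorem fix_ok_run765 : rangeAll (tab.fixOK cert.rels) 128 97792 = true := by decide +kernel

theorem fix_ok_run766 : rangeAll (tab.fixOK cert.rels) 128 97920 = true := by decide +kernel

theorem fix_ok_run767 : rangeAll (tab.fixOK cert.rels) 128 98048 = true := by decide +kernel

theorem fix_ok_run768 : rangeAll (tab.fixOK cert.rels) 128 98176 = true := by decide +kernel

end Cfsg.Agent.Lib.CosetTable.ON122760
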