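import Cfsg.Agent.Lib.CosetTable.Sound
import Cfsg.Agent.Lib.CosetTable.ON122760.Data

/-! Generated certificate data for the coset table `ON122760`. -/

namespace Cfsg.Agent.Lib.CosetTable.ON122760

open Cfsg.Agent.Lib.CosetTable

set_option Elab.async false
set_option maxRecDepth 10000

theorem fix_ok_run769 : rangeAll (tab.fixOK cert.rels) 128 98304 = true := by decide +kernel

theorem fix_ok_run770 : rangeAll (tab.fixOK cert.rels) 128 98432 = true := by decide +kernel

theorem fix_ok_run771 : rangeAll (tab.fixOK cert.rels) 128 98560 = true := by decide +kernel

theorem fix_ok_run772 : rangeAll (tab.fixOK cert.rels) 128 98688 = true := by decide +kernel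

theorem fix_ok_run773 : rangeAll (tab.fixOK cert.rels) 128 98816 = true := by decide +kernel

theorem fix_ok_run774 : rangeAll (tab.fixOK cert.rels) 128 98944 = true := by decide +kernel

theorem fix_ok_run775 : rangeAll (tab.fixOK cert.rels) 128 99072 = true := by decide +kernel

theorem fix_ok_run776 : rangeAll (tab.fixOK cert.rels) 128 99200 = true := by decide +kernel

theorem fix_ok_run777 : rangeAll (tab.fixOK cert.rels) 128 99328 = true := by decide +kernel

theorem fix_ok_run778 : rangeAll (tab.fixOK cert.rels) 128 99456 = true := by decide +kernel

theorem fix_ok_run779 : rangeAll (tab.fixOK cert.rels) 128 99584 = true := by decide +kernel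

theorem fix_ok_run780 : rangeAll (tab.fixOK cert.rels) 128 99712 = true := by decide +kernel

theorem fix_ok_run781 : rangeAll (tab.fixOK cert.rels) 128 99840 = true := by decide +kernel

theorem fix_ok_run782 : rangeAll (tab.fixOK cert.rels) 128 99968 = true := by decide +kernel

theorem fix_ok_run783 : rangeAll (tab.fixOK cert.rels) 128 100096 = true := by decide +kernel

theorem fix_ok_run784 : rangeAll (tab.fixOK cert.rels) 128 100224 = true := by decide +kernel

theorem fix_ok_run785 : rangeAll (tab.fixOK cert.rels) 128 100352 = true := by decide +kernel

theorem fix_ok_run786 : rangeAll (tab.fixOK cert.rels) 128 100480 = true := by decide +kernel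

theorem fix_ok_run787 : rangeAll (tab.fixOK cert.rels) 128 100608 = true := by decide +kernel

theorem fix_ok_run788 : rangeAll (tab.fixOK cert.rels) 128 100736 = true := by decide +kernel

theorem fix_ok_run789 : rangeAll (tab.fixOK cert.rels) 128 100864 = true := by decide +kernel

theorem fix_ok_run790 : rangeAll (tab.fixOK cert.rels) 128 100992 = true := by decide +kernel

theorem fix_ok_run791 : rangeAll (tab.fixOK cert.rels) 128 101120 = true := by decide +kernel

theorem fix_ok_run792 : rangeAll (tab.fixOK cert.rels) 128 101248 = true := by decide +kernel

theorem fix_ok_run793 : rangeAll (tab.fixOK cert.rels) 128 101376 = true := by decide +kernel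

theorem fix_ok_run794 : rangeAll (tab.fixOK cert.rels) 128 101504 = true := by decide +kernel

theorem fix_ok_run795 : rangeAll (tab.fixOK cert.rels) 128 101632 = true := by decide +kernel

theorem fix_ok_run796 : rangeAll (tab.fixOK cert.rels) 128 101760 = true := by decide +kernel

theorem fix_ok_run797 : rangeAll (tab.fixOK cert.rels) 128 101888 = true := by decide +kernel

theorem fix_ok_run798 : rangeAll (tab.fixOK cert.rels) 128 102016 = true := by decide +kernel

theorem fix_ok_run799 : rangeAll (tab.fixOK cert.rels) 128 102144 = true := by decide +kernel

theorem fix_ok_run800 : rangeAll (tab.fixOK cert.rels) 128 102272 = true := by decide +kernel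

theorem fix_ok_run801 : rangeAll (tab.fixOK cert.rels) 128 102400 = true := by decide +kernel

theorem fix_ok_run802 : rangeAll (tab.fixOK cert.rels) 128 102528 = true := by decide +kernel

theorem fix_ok_run803 : rangeAll (tab.fixOK cert.rels) 128 102656 = true := by decide +kernel

theorem fix_ok_run804 : rangeAll (tab.fixOK cert.rels) 128 102784 = true := by decide +kernel

theorem fix_ok_run805 : rangeAll (tab.fixOK cert.rels) 128 102912 = true := by decide +kernel

theorem fix_ok_run806 : rangeAll (tab.fixOK cert.rels) 128 103040 = true := by decide +kernel

theorem fix_ok_run807 : rangeAll (tab.fixOK cert.rels) 128 103168 = true := by decide +kernel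

theorem fix_ok_run808 : rangeAll (tab.fixOK cert.rels) 128 103296 = true := by decide +kernel

theorem fix_ok_run809 : rangeAll (tab.fixOK cert.rels) 128 103424 = true := by decide +kernel

theorem fix_ok_run810 : rangeAll (tab.fixOK cert.rels) 128 103552 = true := by decide +kernel

theorem fix_ok_run811 : rangeAll (tab.fixOK cert.rels) 128 103680 = true := by decide +kernel

theorem fix_ok_run812 : rangeAll (tab.fixOK cert.rels) 128 103808 = true := by decide +kernel

theorem fix_ok_run813 : rangeAll (tab.fixOK cert.rels) 128 103936 = true := by decide +kernel

theorem fix_ok_run814 : rangeAll (tab.fixOK cert.rels) 128 104064 = true := by decide +kernel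

theorem fix_ok_run815 : rangeAll (tab.fixOK cert.rels) 128 104192 = true := by decide +kernel

theorem fix_ok_run816 : rangeAll (tab.fixOK cert.rels) 128 104320 = true := by decide +kernel

theorem fix_ok_run817 : rangeAll (tab.fixOK cert.rels) 128 104448 = true := by decide +kernel

theorem fix_ok_run818 : rangeAll (tab.fixOK cert.rels) 128 104576 = true := by decide +kernel

theorem fix_ok_run819 : rangeAll (tab.fixOK cert.rels) 128 104704 = true := by decide +kernel

theorem fix_ok_run820 : rangeAll (tab.fixOK cert.rels) 128 104832 = true := by decide +kernel

theorem fix_ok_run821 : rangeAll (tab.fixOK cert.rels) 128 104960 = true := by decide +kernel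

theorem fix_ok_run822 : rangeAll (tab.fixOK cert.rels) 128 105088 = true := by decide +kernel

theorem fix_ok_run823 : rangeAll (tab.fixOK cert.rels) 128 105216 = true := by decide +kernel

theorem fix_ok_run824 : rangeAll (tab.fixOK cert.rels) 128 105344 = true := by decide +kernel

theorem fix_ok_run825 : rangeAll (tab.fixOK cert.rels) 128 105472 = true := by decide +kernel

theorem fix_ok_run826 : rangeAll (tab.fixOK cert.rels) 128 105600 = true := by decide +kernel

theorem fix_ok_run827 : rangeAll (tab.fixOK cert.rels) 128 105728 = true := by decide +kernel

theorem fix_ok_run828 : rangeAll (tab.fixOK cert.rels) 128 105856 = true := by decide +kernel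

theorem fix_ok_run829 : rangeAll (tab.fixOK cert.rels) 128 105984 = true := by decide +kernel

theorem fix_ok_run830 : rangeAll (tab.fixOK cert.rels) 128 106112 = true := by decide +kernel

theorem fix_ok_run831 : rangeAll (tab.fixOK cert.rels) 128 106240 = true := by decide +kernel

theorem fix_ok_run832 : rangeAll (tab.fixOK cert.rels) 128 106368 = true := by decide +kernel

end Cfsg.Agent.Lib.CosetTable.ON122760
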