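import Cfsg.Agent.Lib.CosetTable.Sound
import Cfsg.Agent.Lib.CosetTable.ON122760.Data

/-! Generated certificate data for the coset table `ON122760`. -/

namespace Cfsg.Agent.Lib.CosetTable.ON122760

open Cfsg.Agent.Lib.CosetTable

set_option Elab.async false
set_option maxRecDepth 10000

theorem fix_ok_run833 : rangeAll (tab.fixOK cert.rels) 128 106496 = true := by decide +kernel

theorem fix_ok_run834 : rangeAll (tab.fixOK cert.rels) 128 106624 = true := by decide +kernel

theorem fix_ok_run835 : rangeAll (tab.fixOK cert.rels) 128 106752 = true := by decide +kernel

theorem fix_ok_run836 : rangeAll (tab.fixOK cert.rels) 128 106880 = true := by decide +kernel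

theorem fix_ok_run837 : rangeAll (tab.fixOK cert.rels) 128 107008 = true := by decide +kernel

theorem fix_ok_run838 : rangeAll (tab.fixOK cert.rels) 128 107136 = true := by decide +kernel

theorem fix_ok_run839 : rangeAll (tab.fixOK cert.rels) 128 107264 = true := by decide +kernel

theorem fix_ok_run840 : rangeAll (tab.fixOK cert.rels) 128 107392 = true := by decide +kernel

theorem fix_ok_run841 : rangeAll (tab.fixOK cert.rels) 128 107520 = true := by decide +kernel

theorem fix_ok_run842 : rangeAll (tab.fixOK cert.rels) 128 107648 = true := by decide +kernel

theorem fix_ok_run843 : rangeAll (tab.fixOK cert.rels) 128 107776 = true := by decide +kernel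

theorem fix_ok_run844 : rangeAll (tab.fixOK cert.rels) 128 107904 = true := by decide +kernel

theorem fix_ok_run845 : rangeAll (tab.fixOK cert.rels) 128 108032 = true := by decide +kernel

theorem fix_ok_run846 : rangeAll (tab.fixOK cert.rels) 128 108160 = true := by decide +kernel

theorem fix_ok_run847 : rangeAll (tab.fixOK cert.rels) 128 108288 = true := by decide +kernel

theorem fix_ok_run848 : rangeAll (tab.fixOK cert.rels) 128 108416 = true := by decide +kernel

theorem fix_ok_run849 : rangeAll (tab.fixOK cert.rels) 128 108544 = true := by decide +kernel

theorem fix_ok_run850 : rangeAll (tab.fixOK cert.rels) 128 108672 = true := by decide +kernel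

theorem fix_ok_run851 : rangeAll (tab.fixOK cert.rels) 128 108800 = true := by decide +kernel

theorem fix_ok_run852 : rangeAll (tab.fixOK cert.rels) 128 108928 = true := by decide +kernel

theorem fix_ok_run853 : rangeAll (tab.fixOK cert.rels) 128 109056 = true := by decide +kernel

theorem fix_ok_run854 : rangeAll (tab.fixOK cert.rels) 128 109184 = true := by decide +kernel

theorem fix_ok_run855 : rangeAll (tab.fixOK cert.rels) 128 109312 = true := by decide +kernel

theorem fix_ok_run856 : rangeAll (tab.fixOK cert.rels) 128 109440 = true := by decide +kernel

theorem fix_ok_run857 : rangeAll (tab.fixOK cert.rels) 128 109568 = true := by decide +kernel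

theorem fix_ok_run858 : rangeAll (tab.fixOK cert.rels) 128 109696 = true := by decide +kernel

theorem fix_ok_run859 : rangeAll (tab.fixOK cert.rels) 128 109824 = true := by decide +kernel

theorem fix_ok_run860 : rangeAll (tab.fixOK cert.rels) 128 109952 = true := by decide +kernel

theorem fix_ok_run861 : rangeAll (tab.fixOK cert.rels) 128 110080 = true := by decide +kernel

theorem fix_ok_run862 : rangeAll (tab.fixOK cert.rels) 128 110208 = true := by decide +kernel

theorem fix_ok_run863 : rangeAll (tab.fixOK cert.rels) 128 110336 = true := by decide +kernel

theorem fix_ok_run864 : rangeAll (tab.fixOK cert.rels) 128 110464 = true := by decide +kernel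

theorem fix_ok_run865 : rangeAll (tab.fixOK cert.rels) 128 110592 = true := by decide +kernel

theorem fix_ok_run866 : rangeAll (tab.fixOK cert.rels) 128 110720 = true := by decide +kernel

theorem fix_ok_run867 : rangeAll (tab.fixOK cert.rels) 128 110848 = true := by decide +kernel

theorem fix_ok_run868 : rangeAll (tab.fixOK cert.rels) 128 110976 = true := by decide +kernel

theorem fix_ok_run869 : rangeAll (tab.fixOK cert.rels) 128 111104 = true := by decide +kernel

theorem fix_ok_run870 : rangeAll (tab.fixOK cert.rels) 128 111232 = true := by decide +kernel

theorem fix_ok_run871 : rangeAll (tab.fixOK cert.rels) 128 111360 = true := by decide +kernel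

theorem fix_ok_run872 : rangeAll (tab.fixOK cert.rels) 128 111488 = true := by decide +kernel

theorem fix_ok_run873 : rangeAll (tab.fixOK cert.rels) 128 111616 = true := by decide +kernel

theorem fix_ok_run874 : rangeAll (tab.fixOK cert.rels) 128 111744 = true := by decide +kernel

theorem fix_ok_run875 : rangeAll (tab.fixOK cert.rels) 128 111872 = true := by decide +kernel

theorem fix_ok_run876 : rangeAll (tab.fixOK cert.rels) 128 112000 = true := by decide +kernel

theorem fix_ok_run877 : rangeAll (tab.fixOK cert.rels) 128 112128 = true := by decide +kernel

theorem fix_ok_run878 : rangeAll (tab.fixOK cert.rels) 128 112256 = true := by decide +kernel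

theorem fix_ok_run879 : rangeAll (tab.fixOK cert.rels) 128 112384 = true := by decide +kernel

theorem fix_ok_run880 : rangeAll (tab.fixOK cert.rels) 128 112512 = true := by decide +kernel

theorem fix_ok_run881 : rangeAll (tab.fixOK cert.rels) 128 112640 = true := by decide +kernel

theorem fix_ok_run882 : rangeAll (tab.fixOK cert.rels) 128 112768 = true := by decide +kernel

theorem fix_ok_run883 : rangeAll (tab.fixOK cert.rels) 128 112896 = true := by decide +kernel

theorem fix_ok_run884 : rangeAll (tab.fixOK cert.rels) 128 113024 = true := by decide +kernel

theorem fix_ok_run885 : rangeAll (tab.fixOK cert.rels) 128 113152 = true := by decide +kernel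

theorem fix_ok_run886 : rangeAll (tab.fixOK cert.rels) 128 113280 = true := by decide +kernel

theorem fix_ok_run887 : rangeAll (tab.fixOK cert.rels) 128 113408 = true := by decide +kernel

theorem fix_ok_run888 : rangeAll (tab.fixOK cert.rels) 128 113536 = true := by decide +kernel

theorem fix_ok_run889 : rangeAll (tab.fixOK cert.rels) 128 113664 = true := by decide +kernel

theorem fix_ok_run890 : rangeAll (tab.fixOK cert.rels) 128 113792 = true := by decide +kernel

theorem fix_ok_run891 : rangeAll (tab.fixOK cert.rels) 128 113920 = true := by decide +kernel

theorem fix_ok_run892 : rangeAll (tab.fixOK cert.rels) 128 114048 = true := by decide +kernel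

theorem fix_ok_run893 : rangeAll (tab.fixOK cert.rels) 128 114176 = true := by decide +kernel

theorem fix_ok_run894 : rangeAll (tab.fixOK cert.rels) 128 114304 = true := by decide +kernel

theorem fix_ok_run895 : rangeAll (tab.fixOK cert.rels) 128 114432 = true := by decide +kernel

theorem fix_ok_run896 : rangeAll (tab.fixOK cert.rels) 128 114560 = true := by decide +kernel

end Cfsg.Agent.Lib.CosetTable.ON122760
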