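import Cfsg.Agent.Lib.CosetTable.Sound
import Cfsg.Agent.Lib.CosetTable.ON122760.Data

/-! Generated certificate data for the coset table `ON122760`. -/

namespace Cfsg.Agent.Lib.CosetTable.ON122760

open Cfsg.Agent.Lib.CosetTable

set_option Elab.async false
set_option maxRecDepth 10000

theorem fix_ok_run897 : rangeAll (tab.fixOK cert.rels) 128 114688 = true := by decide +kernel

theorem fix_ok_run898 : rangeAll (tab.fixOK cert.rels) 128 114816 = true := by decide +kernel

theorem fix_ok_run899 : rangeAll (tab.fixOK cert.rels) 128 114944 = true := by decide +kernel

theorem fix_ok_run900 : rangeAll (tab.fixOK cert.rels) 128 115072 = true := by decide +kernel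

theorem fix_ok_run901 : rangeAll (tab.fixOK cert.rels) 128 115200 = true := by decide +kernel

theorem fix_ok_run902 : rangeAll (tab.fixOK cert.rels) 128 115328 = true := by decide +kernel

theorem fix_ok_run903 : rangeAll (tab.fixOK cert.rels) 128 115456 = true := by decide +kernel

theorem fix_ok_run904 : rangeAll (tab.fixOK cert.rels) 128 115584 = true := by decide +kernel

theorem fix_ok_run905 : rangeAll (tab.fixOK cert.rels) 128 115712 = true := by decide +kernel

theorem fix_ok_run906 : rangeAll (tab.fixOK cert.rels) 128 115840 = true := by decide +kernel

theorem fix_ok_run907 : rangeAll (tab.fixOK cert.rels) 128 115968 = true := by decide +kernel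

theorem fix_ok_run908 : rangeAll (tab.fixOK cert.rels) 128 116096 = true := by decide +kernel

theorem fix_ok_run909 : rangeAll (tab.fixOK cert.rels) 128 116224 = true := by decide +kernel

theorem fix_ok_run910 : rangeAll (tab.fixOK cert.rels) 128 116352 = true := by decide +kernel

theorem fix_ok_run911 : rangeAll (tab.fixOK cert.rels) 128 116480 = true := by decide +kernel

theorem fix_ok_run912 : rangeAll (tab.fixOK cert.rels) 128 116608 = true := by decide +kernel

theorem fix_ok_run913 : rangeAll (tab.fixOK cert.rels) 128 116736 = true := by decide +kernel

theorem fix_ok_run914 : rangeAll (tab.fixOK cert.rels) 128 116864 = true := by decide +kernel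

theorem fix_ok_run915 : rangeAll (tab.fixOK cert.rels) 128 116992 = true := by decide +kernel

theorem fix_ok_run916 : rangeAll (tab.fixOK cert.rels) 128 117120 = true := by decide +kernel

theorem fix_ok_run917 : rangeAll (tab.fixOK cert.rels) 128 117248 = true := by decide +kernel

theorem fix_ok_run918 : rangeAll (tab.fixOK cert.rels) 128 117376 = true := by decide +kernel

theorem fix_ok_run919 : rangeAll (tab.fixOK cert.rels) 128 117504 = true := by decide +kernel

theorem fix_ok_run920 : rangeAll (tab.fixOK cert.rels) 128 117632 = true := by decide +kernel

theorem fix_ok_run921 : rangeAll (tab.fixOK cert.rels) 128 117760 = true := by decide +kernel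

theorem fix_ok_run922 : rangeAll (tab.fixOK cert.rels) 128 117888 = true := by decide +kernel

theorem fix_ok_run923 : rangeAll (tab.fixOK cert.rels) 128 118016 = true := by decide +kernel

theorem fix_ok_run924 : rangeAll (tab.fixOK cert.rels) 128 118144 = true := by decide +kernel

theorem fix_ok_run925 : rangeAll (tab.fixOK cert.rels) 128 118272 = true := by decide +kernel

theorem fix_ok_run926 : rangeAll (tab.fixOK cert.rels) 128 118400 = true := by decide +kernel

theorem fix_ok_run927 : rangeAll (tab.fixOK cert.rels) 128 118528 = true := by decide +kernel

theorem fix_ok_run928 : rangeAll (tab.fixOK cert.rels) 128 118656 = true := by decide +kernel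

theorem fix_ok_run929 : rangeAll (tab.fixOK cert.rels) 128 118784 = true := by decide +kernel

theorem fix_ok_run930 : rangeAll (tab.fixOK cert.rels) 128 118912 = true := by decide +kernel

theorem fix_ok_run931 : rangeAll (tab.fixOK cert.rels) 128 119040 = true := by decide +kernel

theorem fix_ok_run932 : rangeAll (tab.fixOK cert.rels) 128 119168 = true := by decide +kernel

theorem fix_ok_run933 : rangeAll (tab.fixOK cert.rels) 128 119296 = true := by decide +kernel

theorem fix_ok_run934 : rangeAll (tab.fixOK cert.rels) 128 119424 = true := by decide +kernel

theorem fix_ok_run935 : rangeAll (tab.fixOK cert.rels) 128 119552 = true := by decide +kernel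

theorem fix_ok_run936 : rangeAll (tab.fixOK cert.rels) 128 119680 = true := by decide +kernel

theorem fix_ok_run937 : rangeAll (tab.fixOK cert.rels) 128 119808 = true := by decide +kernel

theorem fix_ok_run938 : rangeAll (tab.fixOK cert.rels) 128 119936 = true := by decide +kernel

theorem fix_ok_run939 : rangeAll (tab.fixOK cert.rels) 128 120064 = true := by decide +kernel

theorem fix_ok_run940 : rangeAll (tab.fixOK cert.rels) 128 120192 = true := by decide +kernel

theorem fix_ok_run941 : rangeAll (tab.fixOK cert.rels) 128 120320 = true := by decide +kernel

theorem fix_ok_run942 : rangeAll (tab.fixOK cert.rels) 128 120448 = true := by decide +kernel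

theorem fix_ok_run943 : rangeAll (tab.fixOK cert.rels) 128 120576 = true := by decide +kernel

theorem fix_ok_run944 : rangeAll (tab.fixOK cert.rels) 128 120704 = true := by decide +kernel

theorem fix_ok_run945 : rangeAll (tab.fixOK cert.rels) 128 120832 = true := by decide +kernel

theorem fix_ok_run946 : rangeAll (tab.fixOK cert.rels) 128 120960 = true := by decide +kernel

theorem fix_ok_run947 : rangeAll (tab.fixOK cert.rels) 128 121088 = true := by decide +kernel

theorem fix_ok_run948 : rangeAll (tab.fixOK cert.rels) 128 121216 = true := by decide +kernel

theorem fix_ok_run949 : rangeAll (tab.fixOK cert.rels) 128 121344 = true := by decide +kernel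

theorem fix_ok_run950 : rangeAll (tab.fixOK cert.rels) 128 121472 = true := by decide +kernel

theorem fix_ok_run951 : rangeAll (tab.fixOK cert.rels) 128 121600 = true := by decide +kernel

theorem fix_ok_run952 : rangeAll (tab.fixOK cert.rels) 128 121728 = true := by decide +kernel

theorem fix_ok_run953 : rangeAll (tab.fixOK cert.rels) 128 121856 = true := by decide +kernel

theorem fix_ok_run954 : rangeAll (tab.fixOK cert.rels) 128 121984 = true := by decide +kernel

theorem fix_ok_run955 : rangeAll (tab.fixOK cert.rels) 128 122112 = true := by decide +kernel

theorem fix_ok_run956 : rangeAll (tab.fixOK cert.rels) 128 122240 = true := by decide +kernel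

theorem fix_ok_run957 : rangeAll (tab.fixOK cert.rels) 128 122368 = true := by decide +kernel

theorem fix_ok_run958 : rangeAll (tab.fixOK cert.rels) 128 122496 = true := by decide +kernel

theorem fix_ok_run959 : rangeAll (tab.fixOK cert.rels) 128 122624 = true := by decide +kernel

theorem fix_ok_run960 : rangeAll (tab.fixOK cert.rels) 8 122752 = true := by decide +kernel

end Cfsg.Agent.Lib.CosetTable.ON122760
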