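import Cfsg.Agent.Lib.CosetTable.Sound
import Cfsg.Agent.Lib.CosetTable.ON122760.Data

/-! Generated certificate data for the coset table `ON122760`. -/

namespace Cfsg.Agent.Lib.CosetTable.ON122760

open Cfsg.Agent.Lib.CosetTable

set_option Elab.async false
set_option maxRecDepth 10000

theorem fix_ok_run65 : rangeAll (tab.fixOK cert.rels) 128 8192 = true := by decide +kernel

theorem fix_ok_run66 : rangeAll (tab.fixOK cert.rels) 128 8320 = true := by decide +kernel

theorem fix_ok_run67 : rangeAll (tab.fixOK cert.rels) 128 8448 = true := by decide +kernel

theorem fix_ok_run68 : rangeAll (tab.fixOK cert.rels) 128 8576 = true := by decide +kernel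

theorem fix_ok_run69 : rangeAll (tab.fixOK cert.rels) 128 8704 = true := by decide +kernel

theorem fix_ok_run70 : rangeAll (tab.fixOK cert.rels) 128 8832 = true := by decide +kernel

theorem fix_ok_run71 : rangeAll (tab.fixOK cert.rels) 128 8960 = true := by decide +kernel

theorem fix_ok_run72 : rangeAll (tab.fixOK cert.rels) 128 9088 = true := by decide +kernel

theorem fix_ok_run73 : rangeAll (tab.fixOK cert.rels) 128 9216 = true := by decide +kernel

theorem fix_ok_run74 : rangeAll (tab.fixOK cert.rels) 128 9344 = true := by decide +kernel

theorem fix_ok_run75 : rangeAll (tab.fixOK cert.rels) 128 9472 = true := by decide +kernel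

theorem fix_ok_run76 : rangeAll (tab.fixOK cert.rels) 128 9600 = true := by decide +kernel

theorem fix_ok_run77 : rangeAll (tab.fixOK cert.rels) 128 9728 = true := by decide +kernel

theorem fix_ok_run78 : rangeAll (tab.fixOK cert.rels) 128 9856 = true := by decide +kernel

theorem fix_ok_run79 : rangeAll (tab.fixOK cert.rels) 128 9984 = true := by decide +kernel

theorem fix_ok_run80 : rangeAll (tab.fixOK cert.rels) 128 10112 = true := by decide +kernel

theorem fix_ok_run81 : rangeAll (tab.fixOK cert.rels) 128 10240 = true := by decide +kernel

theorem fix_ok_run82 : rangeAll (tab.fixOK cert.rels) 128 10368 = true := by decide +kernel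

theorem fix_ok_run83 : rangeAll (tab.fixOK cert.rels) 128 10496 = true := by decide +kernel

theorem fix_ok_run84 : rangeAll (tab.fixOK cert.rels) 128 10624 = true := by decide +kernel

theorem fix_ok_run85 : rangeAll (tab.fixOK cert.rels) 128 10752 = true := by decide +kernel

theorem fix_ok_run86 : rangeAll (tab.fixOK cert.rels) 128 10880 = true := by decide +kernel

theorem fix_ok_run87 : rangeAll (tab.fixOK cert.rels) 128 11008 = true := by decide +kernel

theorem fix_ok_run88 : rangeAll (tab.fixOK cert.rels) 128 11136 = true := by decide +kernel

theorem fix_ok_run89 : rangeAll (tab.fixOK cert.rels) 128 11264 = true := by decide +kernel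

theorem fix_ok_run90 : rangeAll (tab.fixOK cert.rels) 128 11392 = true := by decide +kernel

theorem fix_ok_run91 : rangeAll (tab.fixOK cert.rels) 128 11520 = true := by decide +kernel

theorem fix_ok_run92 : rangeAll (tab.fixOK cert.rels) 128 11648 = true := by decide +kernel

theorem fix_ok_run93 : rangeAll (tab.fixOK cert.rels) 128 11776 = true := by decide +kernel

theorem fix_ok_run94 : rangeAll (tab.fixOK cert.rels) 128 11904 = true := by decide +kernel

theorem fix_ok_run95 : rangeAll (tab.fixOK cert.rels) 128 12032 = true := by decide +kernel

theorem fix_ok_run96 : rangeAll (tab.fixOK cert.rels) 128 12160 = true := by decide +kernel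

theorem fix_ok_run97 : rangeAll (tab.fixOK cert.rels) 128 12288 = true := by decide +kernel

theorem fix_ok_run98 : rangeAll (tab.fixOK cert.rels) 128 12416 = true := by decide +kernel

theorem fix_ok_run99 : rangeAll (tab.fixOK cert.rels) 128 12544 = true := by decide +kernel

theorem fix_ok_run100 : rangeAll (tab.fixOK cert.rels) 128 12672 = true := by decide +kernel

theorem fix_ok_run101 : rangeAll (tab.fixOK cert.rels) 128 12800 = true := by decide +kernel

theorem fix_ok_run102 : rangeAll (tab.fixOK cert.rels) 128 12928 = true := by decide +kernel

theorem fix_ok_run103 : rangeAll (tab.fixOK cert.rels) 128 13056 = true := by decide +kernel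

theorem fix_ok_run104 : rangeAll (tab.fixOK cert.rels) 128 13184 = true := by decide +kernel

theorem fix_ok_run105 : rangeAll (tab.fixOK cert.rels) 128 13312 = true := by decide +kernel

theorem fix_ok_run106 : rangeAll (tab.fixOK cert.rels) 128 13440 = true := by decide +kernel

theorem fix_ok_run107 : rangeAll (tab.fixOK cert.rels) 128 13568 = true := by decide +kernel

theorem fix_ok_run108 : rangeAll (tab.fixOK cert.rels) 128 13696 = true := by decide +kernel

theorem fix_ok_run109 : rangeAll (tab.fixOK cert.rels) 128 13824 = true := by decide +kernel

theorem fix_ok_run110 : rangeAll (tab.fixOK cert.rels) 128 13952 = true := by decide +kernel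

theorem fix_ok_run111 : rangeAll (tab.fixOK cert.rels) 128 14080 = true := by decide +kernel

theorem fix_ok_run112 : rangeAll (tab.fixOK cert.rels) 128 14208 = true := by decide +kernel

theorem fix_ok_run113 : rangeAll (tab.fixOK cert.rels) 128 14336 = true := by decide +kernel

theorem fix_ok_run114 : rangeAll (tab.fixOK cert.rels) 128 14464 = true := by decide +kernel

theorem fix_ok_run115 : rangeAll (tab.fixOK cert.rels) 128 14592 = true := by decide +kernel

theorem fix_ok_run116 : rangeAll (tab.fixOK cert.rels) 128 14720 = true := by decide +kernel

theorem fix_ok_run117 : rangeAll (tab.fixOK cert.rels) 128 14848 = true := by decide +kernel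

theorem fix_ok_run118 : rangeAll (tab.fixOK cert.rels) 128 14976 = true := by decide +kernel

theorem fix_ok_run119 : rangeAll (tab.fixOK cert.rels) 128 15104 = true := by decide +kernel

theorem fix_ok_run120 : rangeAll (tab.fixOK cert.rels) 128 15232 = true := by decide +kernel

theorem fix_ok_run121 : rangeAll (tab.fixOK cert.rels) 128 15360 = true := by decide +kernel

theorem fix_ok_run122 : rangeAll (tab.fixOK cert.rels) 128 15488 = true := by decide +kernel

theorem fix_ok_run123 : rangeAll (tab.fixOK cert.rels) 128 15616 = true := by decide +kernel

theorem fix_ok_run124 : rangeAll (tab.fixOK cert.rels) 128 15744 = true := by decide +kernel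

theorem fix_ok_run125 : rangeAll (tab.fixOK cert.rels) 128 15872 = true := by decide +kernel

theorem fix_ok_run126 : rangeAll (tab.fixOK cert.rels) 128 16000 = true := by decide +kernel

theorem fix_ok_run127 : rangeAll (tab.fixOK cert.rels) 128 16128 = true := by decide +kernel

theorem fix_ok_run128 : rangeAll (tab.fixOK cert.rels) 128 16256 = true := by decide +kernel

end Cfsg.Agent.Lib.CosetTable.ON122760
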