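import Cfsg.Agent.Lib.CosetTable.Sound
import Cfsg.Agent.Lib.CosetTable.ON122760.Data

/-! Generated certificate data for the coset table `ON122760`. -/

namespace Cfsg.Agent.Lib.CosetTable.ON122760

open Cfsg.Agent.Lib.CosetTable

set_option Elab.async false
set_option maxRecDepth 10000

theorem fix_ok_run193 : rangeAll (tab.fixOK cert.rels) 128 24576 = true := by decide +kernel

theorem fix_ok_run194 : rangeAll (tab.fixOK cert.rels) 128 24704 = true := by decide +kernel

theorem fix_ok_run195 : rangeAll (tab.fixOK cert.rels) 128 24832 = true := by decide +kernel

theorem fix_ok_run196 : rangeAll (tab.fixOK cert.rels) 128 24960 = true := by decide +kernel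

theorem fix_ok_run197 : rangeAll (tab.fixOK cert.rels) 128 25088 = true := by decide +kernel

theorem fix_ok_run198 : rangeAll (tab.fixOK cert.rels) 128 25216 = true := by decide +kernel

theorem fix_ok_run199 : rangeAll (tab.fixOK cert.rels) 128 25344 = true := by decide +kernel

theorem fix_ok_run200 : rangeAll (tab.fixOK cert.rels) 128 25472 = true := by decide +kernel

theorem fix_ok_run201 : rangeAll (tab.fixOK cert.rels) 128 25600 = true := by decide +kernel

theorem fix_ok_run202 : rangeAll (tab.fixOK cert.rels) 128 25728 = true := by decide +kernel

theorem fix_ok_run203 : rangeAll (tab.fixOK cert.rels) 128 25856 = true := by decide +kernel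

theorem fix_ok_run204 : rangeAll (tab.fixOK cert.rels) 128 25984 = true := by decide +kernel

theorem fix_ok_run205 : rangeAll (tab.fixOK cert.rels) 128 26112 = true := by decide +kernel

theorem fix_ok_run206 : rangeAll (tab.fixOK cert.rels) 128 26240 = true := by decide +kernel

theorem fix_ok_run207 : rangeAll (tab.fixOK cert.rels) 128 26368 = true := by decide +kernel

theorem fix_ok_run208 : rangeAll (tab.fixOK cert.rels) 128 26496 = true := by decide +kernel

theorem fix_ok_run209 : rangeAll (tab.fixOK cert.rels) 128 26624 = true := by decide +kernel

theorem fix_ok_run210 : rangeAll (tab.fixOK cert.rels) 128 26752 = true := by decide +kernel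

theorem fix_ok_run211 : rangeAll (tab.fixOK cert.rels) 128 26880 = true := by decide +kernel

theorem fix_ok_run212 : rangeAll (tab.fixOK cert.rels) 128 27008 = true := by decide +kernel

theorem fix_ok_run213 : rangeAll (tab.fixOK cert.rels) 128 27136 = true := by decide +kernel

theorem fix_ok_run214 : rangeAll (tab.fixOK cert.rels) 128 27264 = true := by decide +kernel

theorem fix_ok_run215 : rangeAll (tab.fixOK cert.rels) 128 27392 = true := by decide +kernel

theorem fix_ok_run216 : rangeAll (tab.fixOK cert.rels) 128 27520 = true := by decide +kernel

theorem fix_ok_run217 : rangeAll (tab.fixOK cert.rels) 128 27648 = true := by decide +kernel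

theorem fix_ok_run218 : rangeAll (tab.fixOK cert.rels) 128 27776 = true := by decide +kernel

theorem fix_ok_run219 : rangeAll (tab.fixOK cert.rels) 128 27904 = true := by decide +kernel

theorem fix_ok_run220 : rangeAll (tab.fixOK cert.rels) 128 28032 = true := by decide +kernel

theorem fix_ok_run221 : rangeAll (tab.fixOK cert.rels) 128 28160 = true := by decide +kernel

theorem fix_ok_run222 : rangeAll (tab.fixOK cert.rels) 128 28288 = true := by decide +kernel

theorem fix_ok_run223 : rangeAll (tab.fixOK cert.rels) 128 28416 = true := by decide +kernel

theorem fix_ok_run224 : rangeAll (tab.fixOK cert.rels) 128 28544 = true := by decide +kernel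

theorem fix_ok_run225 : rangeAll (tab.fixOK cert.rels) 128 28672 = true := by decide +kernel

theorem fix_ok_run226 : rangeAll (tab.fixOK cert.rels) 128 28800 = true := by decide +kernel

theorem fix_ok_run227 : rangeAll (tab.fixOK cert.rels) 128 28928 = true := by decide +kernel

theorem fix_ok_run228 : rangeAll (tab.fixOK cert.rels) 128 29056 = true := by decide +kernel

theorem fix_ok_run229 : rangeAll (tab.fixOK cert.rels) 128 29184 = true := by decide +kernel

theorem fix_ok_run230 : rangeAll (tab.fixOK cert.rels) 128 29312 = true := by decide +kernel

theorem fix_ok_run231 : rangeAll (tab.fixOK cert.rels) 128 29440 = true := by decide +kernel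

theorem fix_ok_run232 : rangeAll (tab.fixOK cert.rels) 128 29568 = true := by decide +kernel

theorem fix_ok_run233 : rangeAll (tab.fixOK cert.rels) 128 29696 = true := by decide +kernel

theorem fix_ok_run234 : rangeAll (tab.fixOK cert.rels) 128 29824 = true := by decide +kernel

theorem fix_ok_run235 : rangeAll (tab.fixOK cert.rels) 128 29952 = true := by decide +kernel

theorem fix_ok_run236 : rangeAll (tab.fixOK cert.rels) 128 30080 = true := by decide +kernel

theorem fix_ok_run237 : rangeAll (tab.fixOK cert.rels) 128 30208 = true := by decide +kernel

theorem fix_ok_run238 : rangeAll (tab.fixOK cert.rels) 128 30336 = true := by decide +kernel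

theorem fix_ok_run239 : rangeAll (tab.fixOK cert.rels) 128 30464 = true := by decide +kernel

theorem fix_ok_run240 : rangeAll (tab.fixOK cert.rels) 128 30592 = true := by decide +kernel

theorem fix_ok_run241 : rangeAll (tab.fixOK cert.rels) 128 30720 = true := by decide +kernel

theorem fix_ok_run242 : rangeAll (tab.fixOK cert.rels) 128 30848 = true := by decide +kernel

theorem fix_ok_run243 : rangeAll (tab.fixOK cert.rels) 128 30976 = true := by decide +kernel

theorem fix_ok_run244 : rangeAll (tab.fixOK cert.rels) 128 31104 = true := by decide +kernel

theorem fix_ok_run245 : rangeAll (tab.fixOK cert.rels) 128 31232 = true := by decide +kernel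

theorem fix_ok_run246 : rangeAll (tab.fixOK cert.rels) 128 31360 = true := by decide +kernel

theorem fix_ok_run247 : rangeAll (tab.fixOK cert.rels) 128 31488 = true := by decide +kernel

theorem fix_ok_run248 : rangeAll (tab.fixOK cert.rels) 128 31616 = true := by decide +kernel

theorem fix_ok_run249 : rangeAll (tab.fixOK cert.rels) 128 31744 = true := by decide +kernel

theorem fix_ok_run250 : rangeAll (tab.fixOK cert.rels) 128 31872 = true := by decide +kernel

theorem fix_ok_run251 : rangeAll (tab.fixOK cert.rels) 128 32000 = true := by decide +kernel

theorem fix_ok_run252 : rangeAll (tab.fixOK cert.rels) 128 32128 = true := by decide +kernel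

theorem fix_ok_run253 : rangeAll (tab.fixOK cert.rels) 128 32256 = true := by decide +kernel

theorem fix_ok_run254 : rangeAll (tab.fixOK cert.rels) 128 32384 = true := by decide +kernel

theorem fix_ok_run255 : rangeAll (tab.fixOK cert.rels) 128 32512 = true := by decide +kernel

theorem fix_ok_run256 : rangeAll (tab.fixOK cert.rels) 128 32640 = true := by decide +kernel

end Cfsg.Agent.Lib.CosetTable.ON122760
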