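import Cfsg.Agent.Lib.CosetTable.Sound
import Cfsg.Agent.Lib.CosetTable.ON122760.Data

/-! Generated certificate data for the coset table `ON122760`. -/

namespace Cfsg.Agent.Lib.CosetTable.ON122760

open Cfsg.Agent.Lib.CosetTable

set_option Elab.async false
set_option maxRecDepth 10000

theorem fix_ok_run257 : rangeAll (tab.fixOK cert.rels) 128 32768 = true := by decide +kernel

theorem fix_ok_run258 : rangeAll (tab.fixOK cert.rels) 128 32896 = true := by decide +kernel

theorem fix_ok_run259 : rangeAll (tab.fixOK cert.rels) 128 33024 = true := by decide +kernel

theorem fix_ok_run260 : rangeAll (tab.fixOK cert.rels) 128 33152 = true := by decide +kernel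

theorem fix_ok_run261 : rangeAll (tab.fixOK cert.rels) 128 33280 = true := by decide +kernel

theorem fix_ok_run262 : rangeAll (tab.fixOK cert.rels) 128 33408 = true := by decide +kernel

theorem fix_ok_run263 : rangeAll (tab.fixOK cert.rels) 128 33536 = true := by decide +kernel

theorem fix_ok_run264 : rangeAll (tab.fixOK cert.rels) 128 33664 = true := by decide +kernel

theorem fix_ok_run265 : rangeAll (tab.fixOK cert.rels) 128 33792 = true := by decide +kernel

theorem fix_ok_run266 : rangeAll (tab.fixOK cert.rels) 128 33920 = true := by decide +kernel

theorem fix_ok_run267 : rangeAll (tab.fixOK cert.rels) 128 34048 = true := by decide +kernel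

theorem fix_ok_run268 : rangeAll (tab.fixOK cert.rels) 128 34176 = true := by decide +kernel

theorem fix_ok_run269 : rangeAll (tab.fixOK cert.rels) 128 34304 = true := by decide +kernel

theorem fix_ok_run270 : rangeAll (tab.fixOK cert.rels) 128 34432 = true := by decide +kernel

theorem fix_ok_run271 : rangeAll (tab.fixOK cert.rels) 128 34560 = true := by decide +kernel

theorem fix_ok_run272 : rangeAll (tab.fixOK cert.rels) 128 34688 = true := by decide +kernel

theorem fix_ok_run273 : rangeAll (tab.fixOK cert.rels) 128 34816 = true := by decide +kernel

theorem fix_ok_run274 : rangeAll (tab.fixOK cert.rels) 128 34944 = true := by decide +kernel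

theorem fix_ok_run275 : rangeAll (tab.fixOK cert.rels) 128 35072 = true := by decide +kernel

theorem fix_ok_run276 : rangeAll (tab.fixOK cert.rels) 128 35200 = true := by decide +kernel

theorem fix_ok_run277 : rangeAll (tab.fixOK cert.rels) 128 35328 = true := by decide +kernel

theorem fix_ok_run278 : rangeAll (tab.fixOK cert.rels) 128 35456 = true := by decide +kernel

theorem fix_ok_run279 : rangeAll (tab.fixOK cert.rels) 128 35584 = true := by decide +kernel

theorem fix_ok_run280 : rangeAll (tab.fixOK cert.rels) 128 35712 = true := by decide +kernel

theorem fix_ok_run281 : rangeAll (tab.fixOK cert.rels) 128 35840 = true := by decide +kernel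

theorem fix_ok_run282 : rangeAll (tab.fixOK cert.rels) 128 35968 = true := by decide +kernel

theorem fix_ok_run283 : rangeAll (tab.fixOK cert.rels) 128 36096 = true := by decide +kernel

theorem fix_ok_run284 : rangeAll (tab.fixOK cert.rels) 128 36224 = true := by decide +kernel

theorem fix_ok_run285 : rangeAll (tab.fixOK cert.rels) 128 36352 = true := by decide +kernel

theorem fix_ok_run286 : rangeAll (tab.fixOK cert.rels) 128 36480 = true := by decide +kernel

theorem fix_ok_run287 : rangeAll (tab.fixOK cert.rels) 128 36608 = true := by decide +kernel

theorem fix_ok_run288 : rangeAll (tab.fixOK cert.rels) 128 36736 = true := by decide +kernel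

theorem fix_ok_run289 : rangeAll (tab.fixOK cert.rels) 128 36864 = true := by decide +kernel

theorem fix_ok_run290 : rangeAll (tab.fixOK cert.rels) 128 36992 = true := by decide +kernel

theorem fix_ok_run291 : rangeAll (tab.fixOK cert.rels) 128 37120 = true := by decide +kernel

theorem fix_ok_run292 : rangeAll (tab.fixOK cert.rels) 128 37248 = true := by decide +kernel

theorem fix_ok_run293 : rangeAll (tab.fixOK cert.rels) 128 37376 = true := by decide +kernel

theorem fix_ok_run294 : rangeAll (tab.fixOK cert.rels) 128 37504 = true := by decide +kernel

theorem fix_ok_run295 : rangeAll (tab.fixOK cert.rels) 128 37632 = true := by decide +kernel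

theorem fix_ok_run296 : rangeAll (tab.fixOK cert.rels) 128 37760 = true := by decide +kernel

theorem fix_ok_run297 : rangeAll (tab.fixOK cert.rels) 128 37888 = true := by decide +kernel

theorem fix_ok_run298 : rangeAll (tab.fixOK cert.rels) 128 38016 = true := by decide +kernel

theorem fix_ok_run299 : rangeAll (tab.fixOK cert.rels) 128 38144 = true := by decide +kernel

theorem fix_ok_run300 : rangeAll (tab.fixOK cert.rels) 128 38272 = true := by decide +kernel

theorem fix_ok_run301 : rangeAll (tab.fixOK cert.rels) 128 38400 = true := by decide +kernel

theorem fix_ok_run302 : rangeAll (tab.fixOK cert.rels) 128 38528 = true := by decide +kernel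

theorem fix_ok_run303 : rangeAll (tab.fixOK cert.rels) 128 38656 = true := by decide +kernel

theorem fix_ok_run304 : rangeAll (tab.fixOK cert.rels) 128 38784 = true := by decide +kernel

theorem fix_ok_run305 : rangeAll (tab.fixOK cert.rels) 128 38912 = true := by decide +kernel

theorem fix_ok_run306 : rangeAll (tab.fixOK cert.rels) 128 39040 = true := by decide +kernel

theorem fix_ok_run307 : rangeAll (tab.fixOK cert.rels) 128 39168 = true := by decide +kernel

theorem fix_ok_run308 : rangeAll (tab.fixOK cert.rels) 128 39296 = true := by decide +kernel

theorem fix_ok_run309 : rangeAll (tab.fixOK cert.rels) 128 39424 = true := by decide +kernel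

theorem fix_ok_run310 : rangeAll (tab.fixOK cert.rels) 128 39552 = true := by decide +kernel

theorem fix_ok_run311 : rangeAll (tab.fixOK cert.rels) 128 39680 = true := by decide +kernel

theorem fix_ok_run312 : rangeAll (tab.fixOK cert.rels) 128 39808 = true := by decide +kernel

theorem fix_ok_run313 : rangeAll (tab.fixOK cert.rels) 128 39936 = true := by decide +kernel

theorem fix_ok_run314 : rangeAll (tab.fixOK cert.rels) 128 40064 = true := by decide +kernel

theorem fix_ok_run315 : rangeAll (tab.fixOK cert.rels) 128 40192 = true := by decide +kernel

theorem fix_ok_run316 : rangeAll (tab.fixOK cert.rels) 128 40320 = true := by decide +kernel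

theorem fix_ok_run317 : rangeAll (tab.fixOK cert.rels) 128 40448 = true := by decide +kernel

theorem fix_ok_run318 : rangeAll (tab.fixOK cert.rels) 128 40576 = true := by decide +kernel

theorem fix_ok_run319 : rangeAll (tab.fixOK cert.rels) 128 40704 = true := by decide +kernel

theorem fix_ok_run320 : rangeAll (tab.fixOK cert.rels) 128 40832 = true := by decide +kernel

end Cfsg.Agent.Lib.CosetTable.ON122760
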