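import Cfsg.Agent.Lib.CosetTable.Sound
import Cfsg.Agent.Lib.CosetTable.ON122760.Data

/-! Generated certificate data for the coset table `ON122760`. -/

namespace Cfsg.Agent.Lib.CosetTable.ON122760

open Cfsg.Agent.Lib.CosetTable

set_option Elab.async false
set_option maxRecDepth 10000

theorem fix_ok_run321 : rangeAll (tab.fixOK cert.rels) 128 40960 = true := by decide +kernel

theorem fix_ok_run322 : rangeAll (tab.fixOK cert.rels) 128 41088 = true := by decide +kernel

theorem fix_ok_run323 : rangeAll (tab.fixOK cert.rels) 128 41216 = true := by decide +kernel

theorem fix_ok_run324 : rangeAll (tab.fixOK cert.rels) 128 41344 = true := by decide +kernel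

theorem fix_ok_run325 : rangeAll (tab.fixOK cert.rels) 128 41472 = true := by decide +kernel

theorem fix_ok_run326 : rangeAll (tab.fixOK cert.rels) 128 41600 = true := by decide +kernel

theorem fix_ok_run327 : rangeAll (tab.fixOK cert.rels) 128 41728 = true := by decide +kernel

theorem fix_ok_run328 : rangeAll (tab.fixOK cert.rels) 128 41856 = true := by decide +kernel

theorem fix_ok_run329 : rangeAll (tab.fixOK cert.rels) 128 41984 = true := by decide +kernel

theorem fix_ok_run330 : rangeAll (tab.fixOK cert.rels) 128 42112 = true := by decide +kernel

theorem fix_ok_run331 : rangeAll (tab.fixOK cert.rels) 128 42240 = true := by decide +kernel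

theorem fix_ok_run332 : rangeAll (tab.fixOK cert.rels) 128 42368 = true := by decide +kernel

theorem fix_ok_run333 : rangeAll (tab.fixOK cert.rels) 128 42496 = true := by decide +kernel

theorem fix_ok_run334 : rangeAll (tab.fixOK cert.rels) 128 42624 = true := by decide +kernel

theorem fix_ok_run335 : rangeAll (tab.fixOK cert.rels) 128 42752 = true := by decide +kernel

theorem fix_ok_run336 : rangeAll (tab.fixOK cert.rels) 128 42880 = true := by decide +kernel

theorem fix_ok_run337 : rangeAll (tab.fixOK cert.rels) 128 43008 = true := by decide +kernel

theorem fix_ok_run338 : rangeAll (tab.fixOK cert.rels) 128 43136 = true := by decide +kernel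

theorem fix_ok_run339 : rangeAll (tab.fixOK cert.rels) 128 43264 = true := by decide +kernel

theorem fix_ok_run340 : rangeAll (tab.fixOK cert.rels) 128 43392 = true := by decide +kernel

theorem fix_ok_run341 : rangeAll (tab.fixOK cert.rels) 128 43520 = true := by decide +kernel

theorem fix_ok_run342 : rangeAll (tab.fixOK cert.rels) 128 43648 = true := by decide +kernel

theorem fix_ok_run343 : rangeAll (tab.fixOK cert.rels) 128 43776 = true := by decide +kernel

theorem fix_ok_run344 : rangeAll (tab.fixOK cert.rels) 128 43904 = true := by decide +kernel

theorem fix_ok_run345 : rangeAll (tab.fixOK cert.rels) 128 44032 = true := by decide +kernel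

theorem fix_ok_run346 : rangeAll (tab.fixOK cert.rels) 128 44160 = true := by decide +kernel

theorem fix_ok_run347 : rangeAll (tab.fixOK cert.rels) 128 44288 = true := by decide +kernel

theorem fix_ok_run348 : rangeAll (tab.fixOK cert.rels) 128 44416 = true := by decide +kernel

theorem fix_ok_run349 : rangeAll (tab.fixOK cert.rels) 128 44544 = true := by decide +kernel

theorem fix_ok_run350 : rangeAll (tab.fixOK cert.rels) 128 44672 = true := by decide +kernel

theorem fix_ok_run351 : rangeAll (tab.fixOK cert.rels) 128 44800 = true := by decide +kernel

theorem fix_ok_run352 : rangeAll (tab.fixOK cert.rels) 128 44928 = true := by decide +kernel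

theorem fix_ok_run353 : rangeAll (tab.fixOK cert.rels) 128 45056 = true := by decide +kernel

theorem fix_ok_run354 : rangeAll (tab.fixOK cert.rels) 128 45184 = true := by decide +kernel

theorem fix_ok_run355 : rangeAll (tab.fixOK cert.rels) 128 45312 = true := by decide +kernel

theorem fix_ok_run356 : rangeAll (tab.fixOK cert.rels) 128 45440 = true := by decide +kernel

theorem fix_ok_run357 : rangeAll (tab.fixOK cert.rels) 128 45568 = true := by decide +kernel

theorem fix_ok_run358 : rangeAll (tab.fixOK cert.rels) 128 45696 = true := by decide +kernel

theorem fix_ok_run359 : rangeAll (tab.fixOK cert.rels) 128 45824 = true := by decide +kernel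

theorem fix_ok_run360 : rangeAll (tab.fixOK cert.rels) 128 45952 = true := by decide +kernel

theorem fix_ok_run361 : rangeAll (tab.fixOK cert.rels) 128 46080 = true := by decide +kernel

theorem fix_ok_run362 : rangeAll (tab.fixOK cert.rels) 128 46208 = true := by decide +kernel

theorem fix_ok_run363 : rangeAll (tab.fixOK cert.rels) 128 46336 = true := by decide +kernel

theorem fix_ok_run364 : rangeAll (tab.fixOK cert.rels) 128 46464 = true := by decide +kernel

theorem fix_ok_run365 : rangeAll (tab.fixOK cert.rels) 128 46592 = true := by decide +kernel

theorem fix_ok_run366 : rangeAll (tab.fixOK cert.rels) 128 46720 = true := by decide +kernel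

theorem fix_ok_run367 : rangeAll (tab.fixOK cert.rels) 128 46848 = true := by decide +kernel

theorem fix_ok_run368 : rangeAll (tab.fixOK cert.rels) 128 46976 = true := by decide +kernel

theorem fix_ok_run369 : rangeAll (tab.fixOK cert.rels) 128 47104 = true := by decide +kernel

theorem fix_ok_run370 : rangeAll (tab.fixOK cert.rels) 128 47232 = true := by decide +kernel

theorem fix_ok_run371 : rangeAll (tab.fixOK cert.rels) 128 47360 = true := by decide +kernel

theorem fix_ok_run372 : rangeAll (tab.fixOK cert.rels) 128 47488 = true := by decide +kernel

theorem fix_ok_run373 : rangeAll (tab.fixOK cert.rels) 128 47616 = true := by decide +kernel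

theorem fix_ok_run374 : rangeAll (tab.fixOK cert.rels) 128 47744 = true := by decide +kernel

theorem fix_ok_run375 : rangeAll (tab.fixOK cert.rels) 128 47872 = true := by decide +kernel

theorem fix_ok_run376 : rangeAll (tab.fixOK cert.rels) 128 48000 = true := by decide +kernel

theorem fix_ok_run377 : rangeAll (tab.fixOK cert.rels) 128 48128 = true := by decide +kernel

theorem fix_ok_run378 : rangeAll (tab.fixOK cert.rels) 128 48256 = true := by decide +kernel

theorem fix_ok_run379 : rangeAll (tab.fixOK cert.rels) 128 48384 = true := by decide +kernel

theorem fix_ok_run380 : rangeAll (tab.fixOK cert.rels) 128 48512 = true := by decide +kernel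

theorem fix_ok_run381 : rangeAll (tab.fixOK cert.rels) 128 48640 = true := by decide +kernel

theorem fix_ok_run382 : rangeAll (tab.fixOK cert.rels) 128 48768 = true := by decide +kernel

theorem fix_ok_run383 : rangeAll (tab.fixOK cert.rels) 128 48896 = true := by decide +kernel

theorem fix_ok_run384 : rangeAll (tab.fixOK cert.rels) 128 49024 = true := by decide +kernel

end Cfsg.Agent.Lib.CosetTable.ON122760
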