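import Cfsg.Agent.Lib.CosetTable.Sound
import Cfsg.Agent.Lib.CosetTable.ON122760.Data

/-! Generated certificate data for the coset table `ON122760`. -/

namespace Cfsg.Agent.Lib.CosetTable.ON122760

open Cfsg.Agent.Lib.CosetTable

set_option Elab.async false
set_option maxRecDepth 10000

theorem fix_ok_run385 : rangeAll (tab.fixOK cert.rels) 128 49152 = true := by decide +kernel

theorem fix_ok_run386 : rangeAll (tab.fixOK cert.rels) 128 49280 = true := by decide +kernel

theorem fix_ok_run387 : rangeAll (tab.fixOK cert.rels) 128 49408 = true := by decide +kernel

theorem fix_ok_run388 : rangeAll (tab.fixOK cert.rels) 128 49536 = true := by decide +kernel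

theorem fix_ok_run389 : rangeAll (tab.fixOK cert.rels) 128 49664 = true := by decide +kernel

theorem fix_ok_run390 : rangeAll (tab.fixOK cert.rels) 128 49792 = true := by decide +kernel

theorem fix_ok_run391 : rangeAll (tab.fixOK cert.rels) 128 49920 = true := by decide +kernel

theorem fix_ok_run392 : rangeAll (tab.fixOK cert.rels) 128 50048 = true := by decide +kernel

theorem fix_ok_run393 : rangeAll (tab.fixOK cert.rels) 128 50176 = true := by decide +kernel

theorem fix_ok_run394 : rangeAll (tab.fixOK cert.rels) 128 50304 = true := by decide +kernel

theorem fix_ok_run395 : rangeAll (tab.fixOK cert.rels) 128 50432 = true := by decide +kernel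

theorem fix_ok_run396 : rangeAll (tab.fixOK cert.rels) 128 50560 = true := by decide +kernel

theorem fix_ok_run397 : rangeAll (tab.fixOK cert.rels) 128 50688 = true := by decide +kernel

theorem fix_ok_run398 : rangeAll (tab.fixOK cert.rels) 128 50816 = true := by decide +kernel

theorem fix_ok_run399 : rangeAll (tab.fixOK cert.rels) 128 50944 = true := by decide +kernel

theorem fix_ok_run400 : rangeAll (tab.fixOK cert.rels) 128 51072 = true := by decide +kernel

theorem fix_ok_run401 : rangeAll (tab.fixOK cert.rels) 128 51200 = true := by decide +kernel

theorem fix_ok_run402 : rangeAll (tab.fixOK cert.rels) 128 51328 = true := by decide +kernel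

theorem fix_ok_run403 : rangeAll (tab.fixOK cert.rels) 128 51456 = true := by decide +kernel

theorem fix_ok_run404 : rangeAll (tab.fixOK cert.rels) 128 51584 = true := by decide +kernel

theorem fix_ok_run405 : rangeAll (tab.fixOK cert.rels) 128 51712 = true := by decide +kernel

theorem fix_ok_run406 : rangeAll (tab.fixOK cert.rels) 128 51840 = true := by decide +kernel

theorem fix_ok_run407 : rangeAll (tab.fixOK cert.rels) 128 51968 = true := by decide +kernel

theorem fix_ok_run408 : rangeAll (tab.fixOK cert.rels) 128 52096 = true := by decide +kernel

theorem fix_ok_run409 : rangeAll (tab.fixOK cert.rels) 128 52224 = true := by decide +kernel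

theorem fix_ok_run410 : rangeAll (tab.fixOK cert.rels) 128 52352 = true := by decide +kernel

theorem fix_ok_run411 : rangeAll (tab.fixOK cert.rels) 128 52480 = true := by decide +kernel

theorem fix_ok_run412 : rangeAll (tab.fixOK cert.rels) 128 52608 = true := by decide +kernel

theorem fix_ok_run413 : rangeAll (tab.fixOK cert.rels) 128 52736 = true := by decide +kernel

theorem fix_ok_run414 : rangeAll (tab.fixOK cert.rels) 128 52864 = true := by decide +kernel

theorem fix_ok_run415 : rangeAll (tab.fixOK cert.rels) 128 52992 = true := by decide +kernel

theorem fix_ok_run416 : rangeAll (tab.fixOK cert.rels) 128 53120 = true := by decide +kernel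

theorem fix_ok_run417 : rangeAll (tab.fixOK cert.rels) 128 53248 = true := by decide +kernel

theorem fix_ok_run418 : rangeAll (tab.fixOK cert.rels) 128 53376 = true := by decide +kernel

theorem fix_ok_run419 : rangeAll (tab.fixOK cert.rels) 128 53504 = true := by decide +kernel

theorem fix_ok_run420 : rangeAll (tab.fixOK cert.rels) 128 53632 = true := by decide +kernel

theorem fix_ok_run421 : rangeAll (tab.fixOK cert.rels) 128 53760 = true := by decide +kernel

theorem fix_ok_run422 : rangeAll (tab.fixOK cert.rels) 128 53888 = true := by decide +kernel

theorem fix_ok_run423 : rangeAll (tab.fixOK cert.rels) 128 54016 = true := by decide +kernel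

theorem fix_ok_run424 : rangeAll (tab.fixOK cert.rels) 128 54144 = true := by decide +kernel

theorem fix_ok_run425 : rangeAll (tab.fixOK cert.rels) 128 54272 = true := by decide +kernel

theorem fix_ok_run426 : rangeAll (tab.fixOK cert.rels) 128 54400 = true := by decide +kernel

theorem fix_ok_run427 : rangeAll (tab.fixOK cert.rels) 128 54528 = true := by decide +kernel

theorem fix_ok_run428 : rangeAll (tab.fixOK cert.rels) 128 54656 = true := by decide +kernel

theorem fix_ok_run429 : rangeAll (tab.fixOK cert.rels) 128 54784 = true := by decide +kernel

theorem fix_ok_run430 : rangeAll (tab.fixOK cert.rels) 128 54912 = true := by decide +kernel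

theorem fix_ok_run431 : rangeAll (tab.fixOK cert.rels) 128 55040 = true := by decide +kernel

theorem fix_ok_run432 : rangeAll (tab.fixOK cert.rels) 128 55168 = true := by decide +kernel

theorem fix_ok_run433 : rangeAll (tab.fixOK cert.rels) 128 55296 = true := by decide +kernel

theorem fix_ok_run434 : rangeAll (tab.fixOK cert.rels) 128 55424 = true := by decide +kernel

theorem fix_ok_run435 : rangeAll (tab.fixOK cert.rels) 128 55552 = true := by decide +kernel

theorem fix_ok_run436 : rangeAll (tab.fixOK cert.rels) 128 55680 = true := by decide +kernel

theorem fix_ok_run437 : rangeAll (tab.fixOK cert.rels) 128 55808 = true := by decide +kernel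

theorem fix_ok_run438 : rangeAll (tab.fixOK cert.rels) 128 55936 = true := by decide +kernel

theorem fix_ok_run439 : rangeAll (tab.fixOK cert.rels) 128 56064 = true := by decide +kernel

theorem fix_ok_run440 : rangeAll (tab.fixOK cert.rels) 128 56192 = true := by decide +kernel

theorem fix_ok_run441 : rangeAll (tab.fixOK cert.rels) 128 56320 = true := by decide +kernel

theorem fix_ok_run442 : rangeAll (tab.fixOK cert.rels) 128 56448 = true := by decide +kernel

theorem fix_ok_run443 : rangeAll (tab.fixOK cert.rels) 128 56576 = true := by decide +kernel

theorem fix_ok_run444 : rangeAll (tab.fixOK cert.rels) 128 56704 = true := by decide +kernel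

theorem fix_ok_run445 : rangeAll (tab.fixOK cert.rels) 128 56832 = true := by decide +kernel

theorem fix_ok_run446 : rangeAll (tab.fixOK cert.rels) 128 56960 = true := by decide +kernel

theorem fix_ok_run447 : rangeAll (tab.fixOK cert.rels) 128 57088 = true := by decide +kernel

theorem fix_ok_run448 : rangeAll (tab.fixOK cert.rels) 128 57216 = true := by decide +kernel

end Cfsg.Agent.Lib.CosetTable.ON122760
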