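import Cfsg.Agent.Lib.CosetTable.Sound
import Cfsg.Agent.Lib.CosetTable.ON122760.Data

/-! Generated certificate data for the coset table `ON122760`. -/

namespace Cfsg.Agent.Lib.CosetTable.ON122760

open Cfsg.Agent.Lib.CosetTable

set_option Elab.async false
set_option maxRecDepth 10000

theorem fix_ok_run449 : rangeAll (tab.fixOK cert.rels) 128 57344 = true := by decide +kernel

theorem fix_ok_run450 : rangeAll (tab.fixOK cert.rels) 128 57472 = true := by decide +kernel

theorem fix_ok_run451 : rangeAll (tab.fixOK cert.rels) 128 57600 = true := by decide +kernel

theorem fix_ok_run452 : rangeAll (tab.fixOK cert.rels) 128 57728 = true := by decide +kernel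

theorem fix_ok_run453 : rangeAll (tab.fixOK cert.rels) 128 57856 = true := by decide +kernel

theorem fix_ok_run454 : rangeAll (tab.fixOK cert.rels) 128 57984 = true := by decide +kernel

theorem fix_ok_run455 : rangeAll (tab.fixOK cert.rels) 128 58112 = true := by decide +kernel

theorem fix_ok_run456 : rangeAll (tab.fixOK cert.rels) 128 58240 = true := by decide +kernel

theorem fix_ok_run457 : rangeAll (tab.fixOK cert.rels) 128 58368 = true := by decide +kernel

theorem fix_ok_run458 : rangeAll (tab.fixOK cert.rels) 128 58496 = true := by decide +kernel

theorem fix_ok_run459 : rangeAll (tab.fixOK cert.rels) 128 58624 = true := by decide +kernel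

theorem fix_ok_run460 : rangeAll (tab.fixOK cert.rels) 128 58752 = true := by decide +kernel

theorem fix_ok_run461 : rangeAll (tab.fixOK cert.rels) 128 58880 = true := by decide +kernel

theorem fix_ok_run462 : rangeAll (tab.fixOK cert.rels) 128 59008 = true := by decide +kernel

theorem fix_ok_run463 : rangeAll (tab.fixOK cert.rels) 128 59136 = true := by decide +kernel

theorem fix_ok_run464 : rangeAll (tab.fixOK cert.rels) 128 59264 = true := by decide +kernel

theorem fix_ok_run465 : rangeAll (tab.fixOK cert.rels) 128 59392 = true := by decide +kernel

theorem fix_ok_run466 : rangeAll (tab.fixOK cert.rels) 128 59520 = true := by decide +kernel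

theorem fix_ok_run467 : rangeAll (tab.fixOK cert.rels) 128 59648 = true := by decide +kernel

theorem fix_ok_run468 : rangeAll (tab.fixOK cert.rels) 128 59776 = true := by decide +kernel

theorem fix_ok_run469 : rangeAll (tab.fixOK cert.rels) 128 59904 = true := by decide +kernel

theorem fix_ok_run470 : rangeAll (tab.fixOK cert.rels) 128 60032 = true := by decide +kernel

theorem fix_ok_run471 : rangeAll (tab.fixOK cert.rels) 128 60160 = true := by decide +kernel

theorem fix_ok_run472 : rangeAll (tab.fixOK cert.rels) 128 60288 = true := by decide +kernel

theorem fix_ok_run473 : rangeAll (tab.fixOK cert.rels) 128 60416 = true := by decide +kernel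

theorem fix_ok_run474 : rangeAll (tab.fixOK cert.rels) 128 60544 = true := by decide +kernel

theorem fix_ok_run475 : rangeAll (tab.fixOK cert.rels) 128 60672 = true := by decide +kernel

theorem fix_ok_run476 : rangeAll (tab.fixOK cert.rels) 128 60800 = true := by decide +kernel

theorem fix_ok_run477 : rangeAll (tab.fixOK cert.rels) 128 60928 = true := by decide +kernel

theorem fix_ok_run478 : rangeAll (tab.fixOK cert.rels) 128 61056 = true := by decide +kernel

theorem fix_ok_run479 : rangeAll (tab.fixOK cert.rels) 128 61184 = true := by decide +kernel

theorem fix_ok_run480 : rangeAll (tab.fixOK cert.rels) 128 61312 = true := by decide +kernel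

theorem fix_ok_run481 : rangeAll (tab.fixOK cert.rels) 128 61440 = true := by decide +kernel

theorem fix_ok_run482 : rangeAll (tab.fixOK cert.rels) 128 61568 = true := by decide +kernel

theorem fix_ok_run483 : rangeAll (tab.fixOK cert.rels) 128 61696 = true := by decide +kernel

theorem fix_ok_run484 : rangeAll (tab.fixOK cert.rels) 128 61824 = true := by decide +kernel

theorem fix_ok_run485 : rangeAll (tab.fixOK cert.rels) 128 61952 = true := by decide +kernel

theorem fix_ok_run486 : rangeAll (tab.fixOK cert.rels) 128 62080 = true := by decide +kernel

theorem fix_ok_run487 : rangeAll (tab.fixOK cert.rels) 128 62208 = true := by decide +kernel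

theorem fix_ok_run488 : rangeAll (tab.fixOK cert.rels) 128 62336 = true := by decide +kernel

theorem fix_ok_run489 : rangeAll (tab.fixOK cert.rels) 128 62464 = true := by decide +kernel

theorem fix_ok_run490 : rangeAll (tab.fixOK cert.rels) 128 62592 = true := by decide +kernel

theorem fix_ok_run491 : rangeAll (tab.fixOK cert.rels) 128 62720 = true := by decide +kernel

theorem fix_ok_run492 : rangeAll (tab.fixOK cert.rels) 128 62848 = true := by decide +kernel

theorem fix_ok_run493 : rangeAll (tab.fixOK cert.rels) 128 62976 = true := by decide +kernel

theorem fix_ok_run494 : rangeAll (tab.fixOK cert.rels) 128 63104 = true := by decide +kernel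

theorem fix_ok_run495 : rangeAll (tab.fixOK cert.rels) 128 63232 = true := by decide +kernel

theorem fix_ok_run496 : rangeAll (tab.fixOK cert.rels) 128 63360 = true := by decide +kernel

theorem fix_ok_run497 : rangeAll (tab.fixOK cert.rels) 128 63488 = true := by decide +kernel

theorem fix_ok_run498 : rangeAll (tab.fixOK cert.rels) 128 63616 = true := by decide +kernel

theorem fix_ok_run499 : rangeAll (tab.fixOK cert.rels) 128 63744 = true := by decide +kernel

theorem fix_ok_run500 : rangeAll (tab.fixOK cert.rels) 128 63872 = true := by decide +kernel

theorem fix_ok_run501 : rangeAll (tab.fixOK cert.rels) 128 64000 = true := by decide +kernel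

theorem fix_ok_run502 : rangeAll (tab.fixOK cert.rels) 128 64128 = true := by decide +kernel

theorem fix_ok_run503 : rangeAll (tab.fixOK cert.rels) 128 64256 = true := by decide +kernel

theorem fix_ok_run504 : rangeAll (tab.fixOK cert.rels) 128 64384 = true := by decide +kernel

theorem fix_ok_run505 : rangeAll (tab.fixOK cert.rels) 128 64512 = true := by decide +kernel

theorem fix_ok_run506 : rangeAll (tab.fixOK cert.rels) 128 64640 = true := by decide +kernel

theorem fix_ok_run507 : rangeAll (tab.fixOK cert.rels) 128 64768 = true := by decide +kernel

theorem fix_ok_run508 : rangeAll (tab.fixOK cert.rels) 128 64896 = true := by decide +kernel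

theorem fix_ok_run509 : rangeAll (tab.fixOK cert.rels) 128 65024 = true := by decide +kernel

theorem fix_ok_run510 : rangeAll (tab.fixOK cert.rels) 128 65152 = true := by decide +kernel

theorem fix_ok_run511 : rangeAll (tab.fixOK cert.rels) 128 65280 = true := by decide +kernel

theorem fix_ok_run512 : rangeAll (tab.fixOK cert.rels) 128 65408 = true := by decide +kernel

end Cfsg.Agent.Lib.CosetTable.ON122760
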