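import Cfsg.Agent.Lib.CosetTable.Sound
import Cfsg.Agent.Lib.CosetTable.ON122760.Data

/-! Generated certificate data for the coset table `ON122760`. -/

namespace Cfsg.Agent.Lib.CosetTable.ON122760

open Cfsg.Agent.Lib.CosetTable

set_option Elab.async false
set_option maxRecDepth 10000

theorem fix_ok_run513 : rangeAll (tab.fixOK cert.rels) 128 65536 = true := by decide +kernel

theorem fix_ok_run514 : rangeAll (tab.fixOK cert.rels) 128 65664 = true := by decide +kernel

theorem fix_ok_run515 : rangeAll (tab.fixOK cert.rels) 128 65792 = true := by decide +kernel

theorem fix_ok_run516 : rangeAll (tab.fixOK cert.rels) 128 65920 = true := by decide +kernel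

theorem fix_ok_run517 : rangeAll (tab.fixOK cert.rels) 128 66048 = true := by decide +kernel

theorem fix_ok_run518 : rangeAll (tab.fixOK cert.rels) 128 66176 = true := by decide +kernel

theorem fix_ok_run519 : rangeAll (tab.fixOK cert.rels) 128 66304 = true := by decide +kernel

theorem fix_ok_run520 : rangeAll (tab.fixOK cert.rels) 128 66432 = true := by decide +kernel

theorem fix_ok_run521 : rangeAll (tab.fixOK cert.rels) 128 66560 = true := by decide +kernel

theorem fix_ok_run522 : rangeAll (tab.fixOK cert.rels) 128 66688 = true := by decide +kernel

theorem fix_ok_run523 : rangeAll (tab.fixOK cert.rels) 128 66816 = true := by decide +kernel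

theorem fix_ok_run524 : rangeAll (tab.fixOK cert.rels) 128 66944 = true := by decide +kernel

theorem fix_ok_run525 : rangeAll (tab.fixOK cert.rels) 128 67072 = true := by decide +kernel

theorem fix_ok_run526 : rangeAll (tab.fixOK cert.rels) 128 67200 = true := by decide +kernel

theorem fix_ok_run527 : rangeAll (tab.fixOK cert.rels) 128 67328 = true := by decide +kernel

theorem fix_ok_run528 : rangeAll (tab.fixOK cert.rels) 128 67456 = true := by decide +kernel

theorem fix_ok_run529 : rangeAll (tab.fixOK cert.rels) 128 67584 = true := by decide +kernel

theorem fix_ok_run530 : rangeAll (tab.fixOK cert.rels) 128 67712 = true := by decide +kernel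

theorem fix_ok_run531 : rangeAll (tab.fixOK cert.rels) 128 67840 = true := by decide +kernel

theorem fix_ok_run532 : rangeAll (tab.fixOK cert.rels) 128 67968 = true := by decide +kernel

theorem fix_ok_run533 : rangeAll (tab.fixOK cert.rels) 128 68096 = true := by decide +kernel

theorem fix_ok_run534 : rangeAll (tab.fixOK cert.rels) 128 68224 = true := by decide +kernel

theorem fix_ok_run535 : rangeAll (tab.fixOK cert.rels) 128 68352 = true := by decide +kernel

theorem fix_ok_run536 : rangeAll (tab.fixOK cert.rels) 128 68480 = true := by decide +kernel

theorem fix_ok_run537 : rangeAll (tab.fixOK cert.rels) 128 68608 = true := by decide +kernel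

theorem fix_ok_run538 : rangeAll (tab.fixOK cert.rels) 128 68736 = true := by decide +kernel

theorem fix_ok_run539 : rangeAll (tab.fixOK cert.rels) 128 68864 = true := by decide +kernel

theorem fix_ok_run540 : rangeAll (tab.fixOK cert.rels) 128 68992 = true := by decide +kernel

theorem fix_ok_run541 : rangeAll (tab.fixOK cert.rels) 128 69120 = true := by decide +kernel

theorem fix_ok_run542 : rangeAll (tab.fixOK cert.rels) 128 69248 = true := by decide +kernel

theorem fix_ok_run543 : rangeAll (tab.fixOK cert.rels) 128 69376 = true := by decide +kernel

theorem fix_ok_run544 : rangeAll (tab.fixOK cert.rels) 128 69504 = true := by decide +kernel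

theorem fix_ok_run545 : rangeAll (tab.fixOK cert.rels) 128 69632 = true := by decide +kernel

theorem fix_ok_run546 : rangeAll (tab.fixOK cert.rels) 128 69760 = true := by decide +kernel

theorem fix_ok_run547 : rangeAll (tab.fixOK cert.rels) 128 69888 = true := by decide +kernel

theorem fix_ok_run548 : rangeAll (tab.fixOK cert.rels) 128 70016 = true := by decide +kernel

theorem fix_ok_run549 : rangeAll (tab.fixOK cert.rels) 128 70144 = true := by decide +kernel

theorem fix_ok_run550 : rangeAll (tab.fixOK cert.rels) 128 70272 = true := by decide +kernel

theorem fix_ok_run551 : rangeAll (tab.fixOK cert.rels) 128 70400 = true := by decide +kernel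

theorem fix_ok_run552 : rangeAll (tab.fixOK cert.rels) 128 70528 = true := by decide +kernel

theorem fix_ok_run553 : rangeAll (tab.fixOK cert.rels) 128 70656 = true := by decide +kernel

theorem fix_ok_run554 : rangeAll (tab.fixOK cert.rels) 128 70784 = true := by decide +kernel

theorem fix_ok_run555 : rangeAll (tab.fixOK cert.rels) 128 70912 = true := by decide +kernel

theorem fix_ok_run556 : rangeAll (tab.fixOK cert.rels) 128 71040 = true := by decide +kernel

theorem fix_ok_run557 : rangeAll (tab.fixOK cert.rels) 128 71168 = true := by decide +kernel

theorem fix_ok_run558 : rangeAll (tab.fixOK cert.rels) 128 71296 = true := by decide +kernel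

theorem fix_ok_run559 : rangeAll (tab.fixOK cert.rels) 128 71424 = true := by decide +kernel

theorem fix_ok_run560 : rangeAll (tab.fixOK cert.rels) 128 71552 = true := by decide +kernel

theorem fix_ok_run561 : rangeAll (tab.fixOK cert.rels) 128 71680 = true := by decide +kernel

theorem fix_ok_run562 : rangeAll (tab.fixOK cert.rels) 128 71808 = true := by decide +kernel

theorem fix_ok_run563 : rangeAll (tab.fixOK cert.rels) 128 71936 = true := by decide +kernel

theorem fix_ok_run564 : rangeAll (tab.fixOK cert.rels) 128 72064 = true := by decide +kernel

theorem fix_ok_run565 : rangeAll (tab.fixOK cert.rels) 128 72192 = true := by decide +kernel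

theorem fix_ok_run566 : rangeAll (tab.fixOK cert.rels) 128 72320 = true := by decide +kernel

theorem fix_ok_run567 : rangeAll (tab.fixOK cert.rels) 128 72448 = true := by decide +kernel

theorem fix_ok_run568 : rangeAll (tab.fixOK cert.rels) 128 72576 = true := by decide +kernel

theorem fix_ok_run569 : rangeAll (tab.fixOK cert.rels) 128 72704 = true := by decide +kernel

theorem fix_ok_run570 : rangeAll (tab.fixOK cert.rels) 128 72832 = true := by decide +kernel

theorem fix_ok_run571 : rangeAll (tab.fixOK cert.rels) 128 72960 = true := by decide +kernel

theorem fix_ok_run572 : rangeAll (tab.fixOK cert.rels) 128 73088 = true := by decide +kernel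

theorem fix_ok_run573 : rangeAll (tab.fixOK cert.rels) 128 73216 = true := by decide +kernel

theorem fix_ok_run574 : rangeAll (tab.fixOK cert.rels) 128 73344 = true := by decide +kernel

theorem fix_ok_run575 : rangeAll (tab.fixOK cert.rels) 128 73472 = true := by decide +kernel

theorem fix_ok_run576 : rangeAll (tab.fixOK cert.rels) 128 73600 = true := by decide +kernel

end Cfsg.Agent.Lib.CosetTable.ON122760
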