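import Cfsg.Agent.Lib.CosetTable.ON122760.RowsOK
import Cfsg.Agent.Lib.CosetTable.ON122760.FixOK1
import Cfsg.Agent.Lib.CosetTable.ON122760.FixOK2
import Cfsg.Agent.Lib.CosetTable.ON122760.FixOK3
import Cfsg.Agent.Lib.CosetTable.ON122760.FixOK4
import Cfsg.Agent.Lib.CosetTable.ON122760.FixOK5
import Cfsg.Agent.Lib.CosetTable.ON122760.FixOK6
import Cfsg.Agent.Lib.CosetTable.ON122760.FixOK7
import Cfsg.Agent.Lib.CosetTable.ON122760.FixOK8
import Cfsg.Agent.Lib.CosetTable.ON122760.FixOK9
import Cfsg.Agent.Lib.CosetTable.ON122760.FixOK10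
import Cfsg.Agent.Lib.CosetTable.ON122760.FixOK11
import Cfsg.Agent.Lib.CosetTable.ON122760.FixOK12
import Cfsg.Agent.Lib.CosetTable.ON122760.FixOK13
import Cfsg.Agent.Lib.CosetTable.ON122760.FixOK14
import Cfsg.Agent.Lib.CosetTable.ON122760.FixOK15
import Cfsg.Agent.Lib.CosetTable.ON122760.OrbsOK

/-! Generated certificate data for the coset table `ON122760`. -/

set_option maxRecDepth 100000
set_option Elab.async false

namespace Cfsg.Agent.Lib.CosetTable.ON122760

open Cfsg.Agent.Lib.CosetTable

theorem fix_ok : Below (tab.fixOK cert.rels) 122760 :=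
  ((((((((((((((((((((((((((((((((((((((((((((((((((((((((((((((((((((((((((((((((((((((((((((((((((((((((((((((((((((((((((((((((((((((((((((((((((((((((((((((((((((((((((((((((((((((((((((((((((((((((((((((((((((((((((((((((((((((((((((((((((((((((((((((((((((((((((((((((((((((((((((((((((((((((((((((((((((((((((((((((((((((((((((((((((((((((((((((((((((((((((((((((((((((((((((((((((((((((((((((((((((((((((((((((((((((((((((((((((((((((((((((((((((((((((((((((((((((((((((((((((((((((((((((((((((((((((((((((((((((((((((((((((((((((((((((((((((((((((((((((((((((((((((((((((((((((((((((((((((((((((((((((((((((((((((((((((((((((((((((((((((((((((((((((((((((((((((((((((((((((((((((((((((((((((((((((((((((((((((((((((((((((((((((((((((((((((((((((((((((((((((((((((((((((((((((((((((((((((((((((((((((((((((((((((((((((((((((((((((((((((((((((((((((((((((((((((((((((((((((((((((((((((((((((((((((((((((((((((((((((((((((((((((((((((((((((((((((((((((((((Below.zero _).step (b := 128) fix_ok_run1 rfl).step (b := 256) fix_ok_run2 rfl).step (b := 384)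 fix_ok_run3 rfl).step (b := 512) fix_ok_run4 rfl).step (b := 640) fix_ok_run5 rfl).step (b := 768) fix_ok_run6 rfl).step (b := 896) fix_ok_run7 rfl).step (b := 1024) fix_ok_run8 rfl).step (b := 1152) fix_ok_run9 rfl).step (b := 1280) fix_ok_run10 rfl).step (b := 1408) fix_ok_run11 rfl).step (b := 1536) fix_ok_run12 rfl).step (b := 1664) fix_ok_run13 rfl).step (b := 1792) fix_ok_run14 rfl).step (b := 1920) fix_ok_run15 rfl).step (b := 2048) fix_ok_run16 rfl).step (b := 2176) fix_ok_run17 rfl).step (b := 2304) fix_ok_run18 rfl).step (b := 2432) fix_ok_run19 rfl).step (b := 2560) fix_ok_run20 rfl).step (b := 2688) fix_ok_run21 rfl).step (b := 2816) fix_ok_run22 rfl).step (b := 2944) fix_ok_run23 rfl).step (b := 3072) fix_ok_run24 rfl).step (b := 3200) fix_ok_run25 rfl).step (b := 3328) fix_ok_run26 rfl).step (b := 3456) fix_ok_run27 rfl).step (b := 3584) fix_ok_run28 rfl).step (b := 3712) fix_ok_run29 rfl).step (b := 3840) fix_ok_run30 rfl).step (b := 3968) fix_ok_run31 rfl).step (b := 4096) fix_ok_run32 rfl).step (b := 4224) fix_ok_run33 rfl).step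 (b := 4352) fix_ok_run34 rfl).step (b := 4480) fix_ok_run35 rfl).step (b := 4608) fix_ok_run36 rfl).step (b := 4736) fix_ok_run37 rfl).step (b := 4864) fix_ok_run38 rfl).step (b := 4992) fix_ok_run39 rfl).step (b := 5120) fix_ok_run40 rfl).step (b := 5248) fix_ok_run41 rfl).step (b := 5376) fix_ok_run42 rfl).step (b := 5504) fix_ok_run43 rfl).step (b := 5632) fix_ok_run44 rfl).step (b := 5760) fix_ok_run45 rfl).step (b := 5888) fix_ok_run46 rfl).step (b := 6016) fix_ok_run47 rfl).step (b := 6144) fix_ok_run48 rfl).step (b := 6272) fix_ok_run49 rfl).step (b := 6400) fix_ok_run50 rfl).step (b := 6528) fix_ok_run51 rfl).step (b := 6656) fix_ok_run52 rfl).step (b := 6784) fix_ok_run53 rfl).step (b := 6912) fix_ok_run54 rfl).step (b := 7040) fix_ok_run55 rfl).step (b := 7168) fix_ok_run56 rfl).step (b := 7296) fix_ok_run57 rfl).step (b := 7424) fix_ok_run58 rfl).step (b := 7552) fix_ok_run59 rfl).step (b := 7680) fix_ok_run60 rfl).step (b := 7808) fix_ok_run61 rfl).step (b := 7936) fix_ok_run62 rfl).step (b := 8064) fix_ok_run63 rfl).step (b := 8192)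 fix_ok_run64 rfl).step (b := 8320) fix_ok_run65 rfl).step (b := 8448) fix_ok_run66 rfl).step (b := 8576) fix_ok_run67 rfl).step (b := 8704) fix_ok_run68 rfl).step (b := 8832) fix_ok_run69 rfl).step (b := 8960) fix_ok_run70 rfl).step (b := 9088) fix_ok_run71 rfl).step (b := 9216) fix_ok_run72 rfl).step (b := 9344) fix_ok_run73 rfl).step (b := 9472) fix_ok_run74 rfl).step (b := 9600) fix_ok_run75 rfl).step (b := 9728) fix_ok_run76 rfl).step (b := 9856) fix_ok_run77 rfl).step (b := 9984) fix_ok_run78 rfl).step (b := 10112) fix_ok_run79 rfl).step (b := 10240) fix_ok_run80 rfl).step (b := 10368) fix_ok_run81 rfl).step (b := 10496) fix_ok_run82 rfl).step (b := 10624) fix_ok_run83 rfl).step (b := 10752) fix_ok_run84 rfl).step (b := 10880) fix_ok_run85 rfl).step (b := 11008) fix_ok_run86 rfl).step (b := 11136) fix_ok_run87 rfl).step (b := 11264) fix_ok_run88 rfl).step (b := 11392) fix_ok_run89 rfl).step (b := 11520) fix_ok_run90 rfl).step (b := 11648) fix_ok_run91 rfl).step (b := 11776) fix_ok_run92 rfl).step (b := 11904) fix_ok_run93 rfl).step (b :=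 12032) fix_ok_run94 rfl).step (b := 12160) fix_ok_run95 rfl).step (b := 12288) fix_ok_run96 rfl).step (b := 12416) fix_ok_run97 rfl).step (b := 12544) fix_ok_run98 rfl).step (b := 12672) fix_ok_run99 rfl).step (b := 12800) fix_ok_run100 rfl).step (b := 12928) fix_ok_run101 rfl).step (b := 13056) fix_ok_run102 rfl).step (b := 13184) fix_ok_run103 rfl).step (b := 13312) fix_ok_run104 rfl).step (b := 13440) fix_ok_run105 rfl).step (b := 13568) fix_ok_run106 rfl).step (b := 13696) fix_ok_run107 rfl).step (b := 13824) fix_ok_run108 rfl).step (b := 13952) fix_ok_run109 rfl).step (b := 14080) fix_ok_run110 rfl).step (b := 14208) fix_ok_run111 rfl).step (b := 14336) fix_ok_run112 rfl).step (b := 14464) fix_ok_run113 rfl).step (b := 14592) fix_ok_run114 rfl).step (b := 14720) fix_ok_run115 rfl).step (b := 14848) fix_ok_run116 rfl).step (b := 14976) fix_ok_run117 rfl).step (b := 15104) fix_ok_run118 rfl).step (b := 15232) fix_ok_run119 rfl).step (b := 15360) fix_ok_run120 rfl).step (b := 15488) fix_ok_run121 rfl).step (b := 15616) fix_ok_run122 rfl).step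 (b := 15744) fix_ok_run123 rfl).step (b := 15872) fix_ok_run124 rfl).step (b := 16000) fix_ok_run125 rfl).step (b := 16128) fix_ok_run126 rfl).step (b := 16256) fix_ok_run127 rfl).step (b := 16384) fix_ok_run128 rfl).step (b := 16512) fix_ok_run129 rfl).step (b := 16640) fix_ok_run130 rfl).step (b := 16768) fix_ok_run131 rfl).step (b := 16896) fix_ok_run132 rfl).step (b := 17024) fix_ok_run133 rfl).step (b := 17152) fix_ok_run134 rfl).step (b := 17280) fix_ok_run135 rfl).step (b := 17408) fix_ok_run136 rfl).step (b := 17536) fix_ok_run137 rfl).step (b := 17664) fix_ok_run138 rfl).step (b := 17792) fix_ok_run139 rfl).step (b := 17920) fix_ok_run140 rfl).step (b := 18048) fix_ok_run141 rfl).step (b := 18176) fix_ok_run142 rfl).step (b := 18304) fix_ok_run143 rfl).step (b := 18432) fix_ok_run144 rfl).step (b := 18560) fix_ok_run145 rfl).step (b := 18688) fix_ok_run146 rfl).step (b := 18816) fix_ok_run147 rfl).step (b := 18944) fix_ok_run148 rfl).step (b := 19072) fix_ok_run149 rfl).step (b := 19200) fix_ok_run150 rfl).step (b := 19328) fix_ok_run151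 rfl).step (b := 19456) fix_ok_run152 rfl).step (b := 19584) fix_ok_run153 rfl).step (b := 19712) fix_ok_run154 rfl).step (b := 19840) fix_ok_run155 rfl).step (b := 19968) fix_ok_run156 rfl).step (b := 20096) fix_ok_run157 rfl).step (b := 20224) fix_ok_run158 rfl).step (b := 20352) fix_ok_run159 rfl).step (b := 20480) fix_ok_run160 rfl).step (b := 20608) fix_ok_run161 rfl).step (b := 20736) fix_ok_run162 rfl).step (b := 20864) fix_ok_run163 rfl).step (b := 20992) fix_ok_run164 rfl).step (b := 21120) fix_ok_run165 rfl).step (b := 21248) fix_ok_run166 rfl).step (b := 21376) fix_ok_run167 rfl).step (b := 21504) fix_ok_run168 rfl).step (b := 21632) fix_ok_run169 rfl).step (b := 21760) fix_ok_run170 rfl).step (b := 21888) fix_ok_run171 rfl).step (b := 22016) fix_ok_run172 rfl).step (b := 22144) fix_ok_run173 rfl).step (b := 22272) fix_ok_run174 rfl).step (b := 22400) fix_ok_run175 rfl).step (b := 22528) fix_ok_run176 rfl).step (b := 22656) fix_ok_run177 rfl).step (b := 22784) fix_ok_run178 rfl).step (b := 22912) fix_ok_run179 rfl).step (b := 23040)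 fix_ok_run180 rfl).step (b := 23168) fix_ok_run181 rfl).step (b := 23296) fix_ok_run182 rfl).step (b := 23424) fix_ok_run183 rfl).step (b := 23552) fix_ok_run184 rfl).step (b := 23680) fix_ok_run185 rfl).step (b := 23808) fix_ok_run186 rfl).step (b := 23936) fix_ok_run187 rfl).step (b := 24064) fix_ok_run188 rfl).step (b := 24192) fix_ok_run189 rfl).step (b := 24320) fix_ok_run190 rfl).step (b := 24448) fix_ok_run191 rfl).step (b := 24576) fix_ok_run192 rfl).step (b := 24704) fix_ok_run193 rfl).step (b := 24832) fix_ok_run194 rfl).step (b := 24960) fix_ok_run195 rfl).step (b := 25088) fix_ok_run196 rfl).step (b := 25216) fix_ok_run197 rfl).step (b := 25344) fix_ok_run198 rfl).step (b := 25472) fix_ok_run199 rfl).step (b := 25600) fix_ok_run200 rfl).step (b := 25728) fix_ok_run201 rfl).step (b := 25856) fix_ok_run202 rfl).step (b := 25984) fix_ok_run203 rfl).step (b := 26112) fix_ok_run204 rfl).step (b := 26240) fix_ok_run205 rfl).step (b := 26368) fix_ok_run206 rfl).step (b := 26496) fix_ok_run207 rfl).step (b := 26624) fix_ok_run208 rfl).step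 (b := 26752) fix_ok_run209 rfl).step (b := 26880) fix_ok_run210 rfl).step (b := 27008) fix_ok_run211 rfl).step (b := 27136) fix_ok_run212 rfl).step (b := 27264) fix_ok_run213 rfl).step (b := 27392) fix_ok_run214 rfl).step (b := 27520) fix_ok_run215 rfl).step (b := 27648) fix_ok_run216 rfl).step (b := 27776) fix_ok_run217 rfl).step (b := 27904) fix_ok_run218 rfl).step (b := 28032) fix_ok_run219 rfl).step (b := 28160) fix_ok_run220 rfl).step (b := 28288) fix_ok_run221 rfl).step (b := 28416) fix_ok_run222 rfl).step (b := 28544) fix_ok_run223 rfl).step (b := 28672) fix_ok_run224 rfl).step (b := 28800) fix_ok_run225 rfl).step (b := 28928) fix_ok_run226 rfl).step (b := 29056) fix_ok_run227 rfl).step (b := 29184) fix_ok_run228 rfl).step (b := 29312) fix_ok_run229 rfl).step (b := 29440) fix_ok_run230 rfl).step (b := 29568) fix_ok_run231 rfl).step (b := 29696) fix_ok_run232 rfl).step (b := 29824) fix_ok_run233 rfl).step (b := 29952) fix_ok_run234 rfl).step (b := 30080) fix_ok_run235 rfl).step (b := 30208) fix_ok_run236 rfl).step (b := 30336) fix_ok_run237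 rfl).step (b := 30464) fix_ok_run238 rfl).step (b := 30592) fix_ok_run239 rfl).step (b := 30720) fix_ok_run240 rfl).step (b := 30848) fix_ok_run241 rfl).step (b := 30976) fix_ok_run242 rfl).step (b := 31104) fix_ok_run243 rfl).step (b := 31232) fix_ok_run244 rfl).step (b := 31360) fix_ok_run245 rfl).step (b := 31488) fix_ok_run246 rfl).step (b := 31616) fix_ok_run247 rfl).step (b := 31744) fix_ok_run248 rfl).step (b := 31872) fix_ok_run249 rfl).step (b := 32000) fix_ok_run250 rfl).step (b := 32128) fix_ok_run251 rfl).step (b := 32256) fix_ok_run252 rfl).step (b := 32384) fix_ok_run253 rfl).step (b := 32512) fix_ok_run254 rfl).step (b := 32640) fix_ok_run255 rfl).step (b := 32768) fix_ok_run256 rfl).step (b := 32896) fix_ok_run257 rfl).step (b := 33024) fix_ok_run258 rfl).step (b := 33152) fix_ok_run259 rfl).step (b := 33280) fix_ok_run260 rfl).step (b := 33408) fix_ok_run261 rfl).step (b := 33536) fix_ok_run262 rfl).step (b := 33664) fix_ok_run263 rfl).step (b := 33792) fix_ok_run264 rfl).step (b := 33920) fix_ok_run265 rfl).step (b := 34048)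 fix_ok_run266 rfl).step (b := 34176) fix_ok_run267 rfl).step (b := 34304) fix_ok_run268 rfl).step (b := 34432) fix_ok_run269 rfl).step (b := 34560) fix_ok_run270 rfl).step (b := 34688) fix_ok_run271 rfl).step (b := 34816) fix_ok_run272 rfl).step (b := 34944) fix_ok_run273 rfl).step (b := 35072) fix_ok_run274 rfl).step (b := 35200) fix_ok_run275 rfl).step (b := 35328) fix_ok_run276 rfl).step (b := 35456) fix_ok_run277 rfl).step (b := 35584) fix_ok_run278 rfl).step (b := 35712) fix_ok_run279 rfl).step (b := 35840) fix_ok_run280 rfl).step (b := 35968) fix_ok_run281 rfl).step (b := 36096) fix_ok_run282 rfl).step (b := 36224) fix_ok_run283 rfl).step (b := 36352) fix_ok_run284 rfl).step (b := 36480) fix_ok_run285 rfl).step (b := 36608) fix_ok_run286 rfl).step (b := 36736) fix_ok_run287 rfl).step (b := 36864) fix_ok_run288 rfl).step (b := 36992) fix_ok_run289 rfl).step (b := 37120) fix_ok_run290 rfl).step (b := 37248) fix_ok_run291 rfl).step (b := 37376) fix_ok_run292 rfl).step (b := 37504) fix_ok_run293 rfl).step (b := 37632) fix_ok_run294 rfl).step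 (b := 37760) fix_ok_run295 rfl).step (b := 37888) fix_ok_run296 rfl).step (b := 38016) fix_ok_run297 rfl).step (b := 38144) fix_ok_run298 rfl).step (b := 38272) fix_ok_run299 rfl).step (b := 38400) fix_ok_run300 rfl).step (b := 38528) fix_ok_run301 rfl).step (b := 38656) fix_ok_run302 rfl).step (b := 38784) fix_ok_run303 rfl).step (b := 38912) fix_ok_run304 rfl).step (b := 39040) fix_ok_run305 rfl).step (b := 39168) fix_ok_run306 rfl).step (b := 39296) fix_ok_run307 rfl).step (b := 39424) fix_ok_run308 rfl).step (b := 39552) fix_ok_run309 rfl).step (b := 39680) fix_ok_run310 rfl).step (b := 39808) fix_ok_run311 rfl).step (b := 39936) fix_ok_run312 rfl).step (b := 40064) fix_ok_run313 rfl).step (b := 40192) fix_ok_run314 rfl).step (b := 40320) fix_ok_run315 rfl).step (b := 40448) fix_ok_run316 rfl).step (b := 40576) fix_ok_run317 rfl).step (b := 40704) fix_ok_run318 rfl).step (b := 40832) fix_ok_run319 rfl).step (b := 40960) fix_ok_run320 rfl).step (b := 41088) fix_ok_run321 rfl).step (b := 41216) fix_ok_run322 rfl).step (b := 41344) fix_ok_run323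 rfl).step (b := 41472) fix_ok_run324 rfl).step (b := 41600) fix_ok_run325 rfl).step (b := 41728) fix_ok_run326 rfl).step (b := 41856) fix_ok_run327 rfl).step (b := 41984) fix_ok_run328 rfl).step (b := 42112) fix_ok_run329 rfl).step (b := 42240) fix_ok_run330 rfl).step (b := 42368) fix_ok_run331 rfl).step (b := 42496) fix_ok_run332 rfl).step (b := 42624) fix_ok_run333 rfl).step (b := 42752) fix_ok_run334 rfl).step (b := 42880) fix_ok_run335 rfl).step (b := 43008) fix_ok_run336 rfl).step (b := 43136) fix_ok_run337 rfl).step (b := 43264) fix_ok_run338 rfl).step (b := 43392) fix_ok_run339 rfl).step (b := 43520) fix_ok_run340 rfl).step (b := 43648) fix_ok_run341 rfl).step (b := 43776) fix_ok_run342 rfl).step (b := 43904) fix_ok_run343 rfl).step (b := 44032) fix_ok_run344 rfl).step (b := 44160) fix_ok_run345 rfl).step (b := 44288) fix_ok_run346 rfl).step (b := 44416) fix_ok_run347 rfl).step (b := 44544) fix_ok_run348 rfl).step (b := 44672) fix_ok_run349 rfl).step (b := 44800) fix_ok_run350 rfl).step (b := 44928) fix_ok_run351 rfl).step (b := 45056)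 fix_ok_run352 rfl).step (b := 45184) fix_ok_run353 rfl).step (b := 45312) fix_ok_run354 rfl).step (b := 45440) fix_ok_run355 rfl).step (b := 45568) fix_ok_run356 rfl).step (b := 45696) fix_ok_run357 rfl).step (b := 45824) fix_ok_run358 rfl).step (b := 45952) fix_ok_run359 rfl).step (b := 46080) fix_ok_run360 rfl).step (b := 46208) fix_ok_run361 rfl).step (b := 46336) fix_ok_run362 rfl).step (b := 46464) fix_ok_run363 rfl).step (b := 46592) fix_ok_run364 rfl).step (b := 46720) fix_ok_run365 rfl).step (b := 46848) fix_ok_run366 rfl).step (b := 46976) fix_ok_run367 rfl).step (b := 47104) fix_ok_run368 rfl).step (b := 47232) fix_ok_run369 rfl).step (b := 47360) fix_ok_run370 rfl).step (b := 47488) fix_ok_run371 rfl).step (b := 47616) fix_ok_run372 rfl).step (b := 47744) fix_ok_run373 rfl).step (b := 47872) fix_ok_run374 rfl).step (b := 48000) fix_ok_run375 rfl).step (b := 48128) fix_ok_run376 rfl).step (b := 48256) fix_ok_run377 rfl).step (b := 48384) fix_ok_run378 rfl).step (b := 48512) fix_ok_run379 rfl).step (b := 48640) fix_ok_run380 rfl).step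 (b := 48768) fix_ok_run381 rfl).step (b := 48896) fix_ok_run382 rfl).step (b := 49024) fix_ok_run383 rfl).step (b := 49152) fix_ok_run384 rfl).step (b := 49280) fix_ok_run385 rfl).step (b := 49408) fix_ok_run386 rfl).step (b := 49536) fix_ok_run387 rfl).step (b := 49664) fix_ok_run388 rfl).step (b := 49792) fix_ok_run389 rfl).step (b := 49920) fix_ok_run390 rfl).step (b := 50048) fix_ok_run391 rfl).step (b := 50176) fix_ok_run392 rfl).step (b := 50304) fix_ok_run393 rfl).step (b := 50432) fix_ok_run394 rfl).step (b := 50560) fix_ok_run395 rfl).step (b := 50688) fix_ok_run396 rfl).step (b := 50816) fix_ok_run397 rfl).step (b := 50944) fix_ok_run398 rfl).step (b := 51072) fix_ok_run399 rfl).step (b := 51200) fix_ok_run400 rfl).step (b := 51328) fix_ok_run401 rfl).step (b := 51456) fix_ok_run402 rfl).step (b := 51584) fix_ok_run403 rfl).step (b := 51712) fix_ok_run404 rfl).step (b := 51840) fix_ok_run405 rfl).step (b := 51968) fix_ok_run406 rfl).step (b := 52096) fix_ok_run407 rfl).step (b := 52224) fix_ok_run408 rfl).step (b := 52352) fix_ok_run409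 rfl).step (b := 52480) fix_ok_run410 rfl).step (b := 52608) fix_ok_run411 rfl).step (b := 52736) fix_ok_run412 rfl).step (b := 52864) fix_ok_run413 rfl).step (b := 52992) fix_ok_run414 rfl).step (b := 53120) fix_ok_run415 rfl).step (b := 53248) fix_ok_run416 rfl).step (b := 53376) fix_ok_run417 rfl).step (b := 53504) fix_ok_run418 rfl).step (b := 53632) fix_ok_run419 rfl).step (b := 53760) fix_ok_run420 rfl).step (b := 53888) fix_ok_run421 rfl).step (b := 54016) fix_ok_run422 rfl).step (b := 54144) fix_ok_run423 rfl).step (b := 54272) fix_ok_run424 rfl).step (b := 54400) fix_ok_run425 rfl).step (b := 54528) fix_ok_run426 rfl).step (b := 54656) fix_ok_run427 rfl).step (b := 54784) fix_ok_run428 rfl).step (b := 54912) fix_ok_run429 rfl).step (b := 55040) fix_ok_run430 rfl).step (b := 55168) fix_ok_run431 rfl).step (b := 55296) fix_ok_run432 rfl).step (b := 55424) fix_ok_run433 rfl).step (b := 55552) fix_ok_run434 rfl).step (b := 55680) fix_ok_run435 rfl).step (b := 55808) fix_ok_run436 rfl).step (b := 55936) fix_ok_run437 rfl).step (b := 56064)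 fix_ok_run438 rfl).step (b := 56192) fix_ok_run439 rfl).step (b := 56320) fix_ok_run440 rfl).step (b := 56448) fix_ok_run441 rfl).step (b := 56576) fix_ok_run442 rfl).step (b := 56704) fix_ok_run443 rfl).step (b := 56832) fix_ok_run444 rfl).step (b := 56960) fix_ok_run445 rfl).step (b := 57088) fix_ok_run446 rfl).step (b := 57216) fix_ok_run447 rfl).step (b := 57344) fix_ok_run448 rfl).step (b := 57472) fix_ok_run449 rfl).step (b := 57600) fix_ok_run450 rfl).step (b := 57728) fix_ok_run451 rfl).step (b := 57856) fix_ok_run452 rfl).step (b := 57984) fix_ok_run453 rfl).step (b := 58112) fix_ok_run454 rfl).step (b := 58240) fix_ok_run455 rfl).step (b := 58368) fix_ok_run456 rfl).step (b := 58496) fix_ok_run457 rfl).step (b := 58624) fix_ok_run458 rfl).step (b := 58752) fix_ok_run459 rfl).step (b := 58880) fix_ok_run460 rfl).step (b := 59008) fix_ok_run461 rfl).step (b := 59136) fix_ok_run462 rfl).step (b := 59264) fix_ok_run463 rfl).step (b := 59392) fix_ok_run464 rfl).step (b := 59520) fix_ok_run465 rfl).step (b := 59648) fix_ok_run466 rfl).step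 (b := 59776) fix_ok_run467 rfl).step (b := 59904) fix_ok_run468 rfl).step (b := 60032) fix_ok_run469 rfl).step (b := 60160) fix_ok_run470 rfl).step (b := 60288) fix_ok_run471 rfl).step (b := 60416) fix_ok_run472 rfl).step (b := 60544) fix_ok_run473 rfl).step (b := 60672) fix_ok_run474 rfl).step (b := 60800) fix_ok_run475 rfl).step (b := 60928) fix_ok_run476 rfl).step (b := 61056) fix_ok_run477 rfl).step (b := 61184) fix_ok_run478 rfl).step (b := 61312) fix_ok_run479 rfl).step (b := 61440) fix_ok_run480 rfl).step (b := 61568) fix_ok_run481 rfl).step (b := 61696) fix_ok_run482 rfl).step (b := 61824) fix_ok_run483 rfl).step (b := 61952) fix_ok_run484 rfl).step (b := 62080) fix_ok_run485 rfl).step (b := 62208) fix_ok_run486 rfl).step (b := 62336) fix_ok_run487 rfl).step (b := 62464) fix_ok_run488 rfl).step (b := 62592) fix_ok_run489 rfl).step (b := 62720) fix_ok_run490 rfl).step (b := 62848) fix_ok_run491 rfl).step (b := 62976) fix_ok_run492 rfl).step (b := 63104) fix_ok_run493 rfl).step (b := 63232) fix_ok_run494 rfl).step (b := 63360) fix_ok_run495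 rfl).step (b := 63488) fix_ok_run496 rfl).step (b := 63616) fix_ok_run497 rfl).step (b := 63744) fix_ok_run498 rfl).step (b := 63872) fix_ok_run499 rfl).step (b := 64000) fix_ok_run500 rfl).step (b := 64128) fix_ok_run501 rfl).step (b := 64256) fix_ok_run502 rfl).step (b := 64384) fix_ok_run503 rfl).step (b := 64512) fix_ok_run504 rfl).step (b := 64640) fix_ok_run505 rfl).step (b := 64768) fix_ok_run506 rfl).step (b := 64896) fix_ok_run507 rfl).step (b := 65024) fix_ok_run508 rfl).step (b := 65152) fix_ok_run509 rfl).step (b := 65280) fix_ok_run510 rfl).step (b := 65408) fix_ok_run511 rfl).step (b := 65536) fix_ok_run512 rfl).step (b := 65664) fix_ok_run513 rfl).step (b := 65792) fix_ok_run514 rfl).step (b := 65920) fix_ok_run515 rfl).step (b := 66048) fix_ok_run516 rfl).step (b := 66176) fix_ok_run517 rfl).step (b := 66304) fix_ok_run518 rfl).step (b := 66432) fix_ok_run519 rfl).step (b := 66560) fix_ok_run520 rfl).step (b := 66688) fix_ok_run521 rfl).step (b := 66816) fix_ok_run522 rfl).step (b := 66944) fix_ok_run523 rfl).step (b := 67072)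 fix_ok_run524 rfl).step (b := 67200) fix_ok_run525 rfl).step (b := 67328) fix_ok_run526 rfl).step (b := 67456) fix_ok_run527 rfl).step (b := 67584) fix_ok_run528 rfl).step (b := 67712) fix_ok_run529 rfl).step (b := 67840) fix_ok_run530 rfl).step (b := 67968) fix_ok_run531 rfl).step (b := 68096) fix_ok_run532 rfl).step (b := 68224) fix_ok_run533 rfl).step (b := 68352) fix_ok_run534 rfl).step (b := 68480) fix_ok_run535 rfl).step (b := 68608) fix_ok_run536 rfl).step (b := 68736) fix_ok_run537 rfl).step (b := 68864) fix_ok_run538 rfl).step (b := 68992) fix_ok_run539 rfl).step (b := 69120) fix_ok_run540 rfl).step (b := 69248) fix_ok_run541 rfl).step (b := 69376) fix_ok_run542 rfl).step (b := 69504) fix_ok_run543 rfl).step (b := 69632) fix_ok_run544 rfl).step (b := 69760) fix_ok_run545 rfl).step (b := 69888) fix_ok_run546 rfl).step (b := 70016) fix_ok_run547 rfl).step (b := 70144) fix_ok_run548 rfl).step (b := 70272) fix_ok_run549 rfl).step (b := 70400) fix_ok_run550 rfl).step (b := 70528) fix_ok_run551 rfl).step (b := 70656) fix_ok_run552 rfl).step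 (b := 70784) fix_ok_run553 rfl).step (b := 70912) fix_ok_run554 rfl).step (b := 71040) fix_ok_run555 rfl).step (b := 71168) fix_ok_run556 rfl).step (b := 71296) fix_ok_run557 rfl).step (b := 71424) fix_ok_run558 rfl).step (b := 71552) fix_ok_run559 rfl).step (b := 71680) fix_ok_run560 rfl).step (b := 71808) fix_ok_run561 rfl).step (b := 71936) fix_ok_run562 rfl).step (b := 72064) fix_ok_run563 rfl).step (b := 72192) fix_ok_run564 rfl).step (b := 72320) fix_ok_run565 rfl).step (b := 72448) fix_ok_run566 rfl).step (b := 72576) fix_ok_run567 rfl).step (b := 72704) fix_ok_run568 rfl).step (b := 72832) fix_ok_run569 rfl).step (b := 72960) fix_ok_run570 rfl).step (b := 73088) fix_ok_run571 rfl).step (b := 73216) fix_ok_run572 rfl).step (b := 73344) fix_ok_run573 rfl).step (b := 73472) fix_ok_run574 rfl).step (b := 73600) fix_ok_run575 rfl).step (b := 73728) fix_ok_run576 rfl).step (b := 73856) fix_ok_run577 rfl).step (b := 73984) fix_ok_run578 rfl).step (b := 74112) fix_ok_run579 rfl).step (b := 74240) fix_ok_run580 rfl).step (b := 74368) fix_ok_run581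 rfl).step (b := 74496) fix_ok_run582 rfl).step (b := 74624) fix_ok_run583 rfl).step (b := 74752) fix_ok_run584 rfl).step (b := 74880) fix_ok_run585 rfl).step (b := 75008) fix_ok_run586 rfl).step (b := 75136) fix_ok_run587 rfl).step (b := 75264) fix_ok_run588 rfl).step (b := 75392) fix_ok_run589 rfl).step (b := 75520) fix_ok_run590 rfl).step (b := 75648) fix_ok_run591 rfl).step (b := 75776) fix_ok_run592 rfl).step (b := 75904) fix_ok_run593 rfl).step (b := 76032) fix_ok_run594 rfl).step (b := 76160) fix_ok_run595 rfl).step (b := 76288) fix_ok_run596 rfl).step (b := 76416) fix_ok_run597 rfl).step (b := 76544) fix_ok_run598 rfl).step (b := 76672) fix_ok_run599 rfl).step (b := 76800) fix_ok_run600 rfl).step (b := 76928) fix_ok_run601 rfl).step (b := 77056) fix_ok_run602 rfl).step (b := 77184) fix_ok_run603 rfl).step (b := 77312) fix_ok_run604 rfl).step (b := 77440) fix_ok_run605 rfl).step (b := 77568) fix_ok_run606 rfl).step (b := 77696) fix_ok_run607 rfl).step (b := 77824) fix_ok_run608 rfl).step (b := 77952) fix_ok_run609 rfl).step (b := 78080)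 fix_ok_run610 rfl).step (b := 78208) fix_ok_run611 rfl).step (b := 78336) fix_ok_run612 rfl).step (b := 78464) fix_ok_run613 rfl).step (b := 78592) fix_ok_run614 rfl).step (b := 78720) fix_ok_run615 rfl).step (b := 78848) fix_ok_run616 rfl).step (b := 78976) fix_ok_run617 rfl).step (b := 79104) fix_ok_run618 rfl).step (b := 79232) fix_ok_run619 rfl).step (b := 79360) fix_ok_run620 rfl).step (b := 79488) fix_ok_run621 rfl).step (b := 79616) fix_ok_run622 rfl).step (b := 79744) fix_ok_run623 rfl).step (b := 79872) fix_ok_run624 rfl).step (b := 80000) fix_ok_run625 rfl).step (b := 80128) fix_ok_run626 rfl).step (b := 80256) fix_ok_run627 rfl).step (b := 80384) fix_ok_run628 rfl).step (b := 80512) fix_ok_run629 rfl).step (b := 80640) fix_ok_run630 rfl).step (b := 80768) fix_ok_run631 rfl).step (b := 80896) fix_ok_run632 rfl).step (b := 81024) fix_ok_run633 rfl).step (b := 81152) fix_ok_run634 rfl).step (b := 81280) fix_ok_run635 rfl).step (b := 81408) fix_ok_run636 rfl).step (b := 81536) fix_ok_run637 rfl).step (b := 81664) fix_ok_run638 rfl).step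 (b := 81792) fix_ok_run639 rfl).step (b := 81920) fix_ok_run640 rfl).step (b := 82048) fix_ok_run641 rfl).step (b := 82176) fix_ok_run642 rfl).step (b := 82304) fix_ok_run643 rfl).step (b := 82432) fix_ok_run644 rfl).step (b := 82560) fix_ok_run645 rfl).step (b := 82688) fix_ok_run646 rfl).step (b := 82816) fix_ok_run647 rfl).step (b := 82944) fix_ok_run648 rfl).step (b := 83072) fix_ok_run649 rfl).step (b := 83200) fix_ok_run650 rfl).step (b := 83328) fix_ok_run651 rfl).step (b := 83456) fix_ok_run652 rfl).step (b := 83584) fix_ok_run653 rfl).step (b := 83712) fix_ok_run654 rfl).step (b := 83840) fix_ok_run655 rfl).step (b := 83968) fix_ok_run656 rfl).step (b := 84096) fix_ok_run657 rfl).step (b := 84224) fix_ok_run658 rfl).step (b := 84352) fix_ok_run659 rfl).step (b := 84480) fix_ok_run660 rfl).step (b := 84608) fix_ok_run661 rfl).step (b := 84736) fix_ok_run662 rfl).step (b := 84864) fix_ok_run663 rfl).step (b := 84992) fix_ok_run664 rfl).step (b := 85120) fix_ok_run665 rfl).step (b := 85248) fix_ok_run666 rfl).step (b := 85376) fix_ok_run667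 rfl).step (b := 85504) fix_ok_run668 rfl).step (b := 85632) fix_ok_run669 rfl).step (b := 85760) fix_ok_run670 rfl).step (b := 85888) fix_ok_run671 rfl).step (b := 86016) fix_ok_run672 rfl).step (b := 86144) fix_ok_run673 rfl).step (b := 86272) fix_ok_run674 rfl).step (b := 86400) fix_ok_run675 rfl).step (b := 86528) fix_ok_run676 rfl).step (b := 86656) fix_ok_run677 rfl).step (b := 86784) fix_ok_run678 rfl).step (b := 86912) fix_ok_run679 rfl).step (b := 87040) fix_ok_run680 rfl).step (b := 87168) fix_ok_run681 rfl).step (b := 87296) fix_ok_run682 rfl).step (b := 87424) fix_ok_run683 rfl).step (b := 87552) fix_ok_run684 rfl).step (b := 87680) fix_ok_run685 rfl).step (b := 87808) fix_ok_run686 rfl).step (b := 87936) fix_ok_run687 rfl).step (b := 88064) fix_ok_run688 rfl).step (b := 88192) fix_ok_run689 rfl).step (b := 88320) fix_ok_run690 rfl).step (b := 88448) fix_ok_run691 rfl).step (b := 88576) fix_ok_run692 rfl).step (b := 88704) fix_ok_run693 rfl).step (b := 88832) fix_ok_run694 rfl).step (b := 88960) fix_ok_run695 rfl).step (b := 89088)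 fix_ok_run696 rfl).step (b := 89216) fix_ok_run697 rfl).step (b := 89344) fix_ok_run698 rfl).step (b := 89472) fix_ok_run699 rfl).step (b := 89600) fix_ok_run700 rfl).step (b := 89728) fix_ok_run701 rfl).step (b := 89856) fix_ok_run702 rfl).step (b := 89984) fix_ok_run703 rfl).step (b := 90112) fix_ok_run704 rfl).step (b := 90240) fix_ok_run705 rfl).step (b := 90368) fix_ok_run706 rfl).step (b := 90496) fix_ok_run707 rfl).step (b := 90624) fix_ok_run708 rfl).step (b := 90752) fix_ok_run709 rfl).step (b := 90880) fix_ok_run710 rfl).step (b := 91008) fix_ok_run711 rfl).step (b := 91136) fix_ok_run712 rfl).step (b := 91264) fix_ok_run713 rfl).step (b := 91392) fix_ok_run714 rfl).step (b := 91520) fix_ok_run715 rfl).step (b := 91648) fix_ok_run716 rfl).step (b := 91776) fix_ok_run717 rfl).step (b := 91904) fix_ok_run718 rfl).step (b := 92032) fix_ok_run719 rfl).step (b := 92160) fix_ok_run720 rfl).step (b := 92288) fix_ok_run721 rfl).step (b := 92416) fix_ok_run722 rfl).step (b := 92544) fix_ok_run723 rfl).step (b := 92672) fix_ok_run724 rfl).step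 (b := 92800) fix_ok_run725 rfl).step (b := 92928) fix_ok_run726 rfl).step (b := 93056) fix_ok_run727 rfl).step (b := 93184) fix_ok_run728 rfl).step (b := 93312) fix_ok_run729 rfl).step (b := 93440) fix_ok_run730 rfl).step (b := 93568) fix_ok_run731 rfl).step (b := 93696) fix_ok_run732 rfl).step (b := 93824) fix_ok_run733 rfl).step (b := 93952) fix_ok_run734 rfl).step (b := 94080) fix_ok_run735 rfl).step (b := 94208) fix_ok_run736 rfl).step (b := 94336) fix_ok_run737 rfl).step (b := 94464) fix_ok_run738 rfl).step (b := 94592) fix_ok_run739 rfl).step (b := 94720) fix_ok_run740 rfl).step (b := 94848) fix_ok_run741 rfl).step (b := 94976) fix_ok_run742 rfl).step (b := 95104) fix_ok_run743 rfl).step (b := 95232) fix_ok_run744 rfl).step (b := 95360) fix_ok_run745 rfl).step (b := 95488) fix_ok_run746 rfl).step (b := 95616) fix_ok_run747 rfl).step (b := 95744) fix_ok_run748 rfl).step (b := 95872) fix_ok_run749 rfl).step (b := 96000) fix_ok_run750 rfl).step (b := 96128) fix_ok_run751 rfl).step (b := 96256) fix_ok_run752 rfl).step (b := 96384) fix_ok_run753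 rfl).step (b := 96512) fix_ok_run754 rfl).step (b := 96640) fix_ok_run755 rfl).step (b := 96768) fix_ok_run756 rfl).step (b := 96896) fix_ok_run757 rfl).step (b := 97024) fix_ok_run758 rfl).step (b := 97152) fix_ok_run759 rfl).step (b := 97280) fix_ok_run760 rfl).step (b := 97408) fix_ok_run761 rfl).step (b := 97536) fix_ok_run762 rfl).step (b := 97664) fix_ok_run763 rfl).step (b := 97792) fix_ok_run764 rfl).step (b := 97920) fix_ok_run765 rfl).step (b := 98048) fix_ok_run766 rfl).step (b := 98176) fix_ok_run767 rfl).step (b := 98304) fix_ok_run768 rfl).step (b := 98432) fix_ok_run769 rfl).step (b := 98560) fix_ok_run770 rfl).step (b := 98688) fix_ok_run771 rfl).step (b := 98816) fix_ok_run772 rfl).step (b := 98944) fix_ok_run773 rfl).step (b := 99072) fix_ok_run774 rfl).step (b := 99200) fix_ok_run775 rfl).step (b := 99328) fix_ok_run776 rfl).step (b := 99456) fix_ok_run777 rfl).step (b := 99584) fix_ok_run778 rfl).step (b := 99712) fix_ok_run779 rfl).step (b := 99840) fix_ok_run780 rfl).step (b := 99968) fix_ok_run781 rfl).step (b := 100096)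 fix_ok_run782 rfl).step (b := 100224) fix_ok_run783 rfl).step (b := 100352) fix_ok_run784 rfl).step (b := 100480) fix_ok_run785 rfl).step (b := 100608) fix_ok_run786 rfl).step (b := 100736) fix_ok_run787 rfl).step (b := 100864) fix_ok_run788 rfl).step (b := 100992) fix_ok_run789 rfl).step (b := 101120) fix_ok_run790 rfl).step (b := 101248) fix_ok_run791 rfl).step (b := 101376) fix_ok_run792 rfl).step (b := 101504) fix_ok_run793 rfl).step (b := 101632) fix_ok_run794 rfl).step (b := 101760) fix_ok_run795 rfl).step (b := 101888) fix_ok_run796 rfl).step (b := 102016) fix_ok_run797 rfl).step (b := 102144) fix_ok_run798 rfl).step (b := 102272) fix_ok_run799 rfl).step (b := 102400) fix_ok_run800 rfl).step (b := 102528) fix_ok_run801 rfl).step (b := 102656) fix_ok_run802 rfl).step (b := 102784) fix_ok_run803 rfl).step (b := 102912) fix_ok_run804 rfl).step (b := 103040) fix_ok_run805 rfl).step (b := 103168) fix_ok_run806 rfl).step (b := 103296) fix_ok_run807 rfl).step (b := 103424) fix_ok_run808 rfl).step (b := 103552) fix_ok_run809 rfl).step (b := 103680)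 fix_ok_run810 rfl).step (b := 103808) fix_ok_run811 rfl).step (b := 103936) fix_ok_run812 rfl).step (b := 104064) fix_ok_run813 rfl).step (b := 104192) fix_ok_run814 rfl).step (b := 104320) fix_ok_run815 rfl).step (b := 104448) fix_ok_run816 rfl).step (b := 104576) fix_ok_run817 rfl).step (b := 104704) fix_ok_run818 rfl).step (b := 104832) fix_ok_run819 rfl).step (b := 104960) fix_ok_run820 rfl).step (b := 105088) fix_ok_run821 rfl).step (b := 105216) fix_ok_run822 rfl).step (b := 105344) fix_ok_run823 rfl).step (b := 105472) fix_ok_run824 rfl).step (b := 105600) fix_ok_run825 rfl).step (b := 105728) fix_ok_run826 rfl).step (b := 105856) fix_ok_run827 rfl).step (b := 105984) fix_ok_run828 rfl).step (b := 106112) fix_ok_run829 rfl).step (b := 106240) fix_ok_run830 rfl).step (b := 106368) fix_ok_run831 rfl).step (b := 106496) fix_ok_run832 rfl).step (b := 106624) fix_ok_run833 rfl).step (b := 106752) fix_ok_run834 rfl).step (b := 106880) fix_ok_run835 rfl).step (b := 107008) fix_ok_run836 rfl).step (b := 107136) fix_ok_run837 rfl).step (b := 107264)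 fix_ok_run838 rfl).step (b := 107392) fix_ok_run839 rfl).step (b := 107520) fix_ok_run840 rfl).step (b := 107648) fix_ok_run841 rfl).step (b := 107776) fix_ok_run842 rfl).step (b := 107904) fix_ok_run843 rfl).step (b := 108032) fix_ok_run844 rfl).step (b := 108160) fix_ok_run845 rfl).step (b := 108288) fix_ok_run846 rfl).step (b := 108416) fix_ok_run847 rfl).step (b := 108544) fix_ok_run848 rfl).step (b := 108672) fix_ok_run849 rfl).step (b := 108800) fix_ok_run850 rfl).step (b := 108928) fix_ok_run851 rfl).step (b := 109056) fix_ok_run852 rfl).step (b := 109184) fix_ok_run853 rfl).step (b := 109312) fix_ok_run854 rfl).step (b := 109440) fix_ok_run855 rfl).step (b := 109568) fix_ok_run856 rfl).step (b := 109696) fix_ok_run857 rfl).step (b := 109824) fix_ok_run858 rfl).step (b := 109952) fix_ok_run859 rfl).step (b := 110080) fix_ok_run860 rfl).step (b := 110208) fix_ok_run861 rfl).step (b := 110336) fix_ok_run862 rfl).step (b := 110464) fix_ok_run863 rfl).step (b := 110592) fix_ok_run864 rfl).step (b := 110720) fix_ok_run865 rfl).step (b := 110848)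 fix_ok_run866 rfl).step (b := 110976) fix_ok_run867 rfl).step (b := 111104) fix_ok_run868 rfl).step (b := 111232) fix_ok_run869 rfl).step (b := 111360) fix_ok_run870 rfl).step (b := 111488) fix_ok_run871 rfl).step (b := 111616) fix_ok_run872 rfl).step (b := 111744) fix_ok_run873 rfl).step (b := 111872) fix_ok_run874 rfl).step (b := 112000) fix_ok_run875 rfl).step (b := 112128) fix_ok_run876 rfl).step (b := 112256) fix_ok_run877 rfl).step (b := 112384) fix_ok_run878 rfl).step (b := 112512) fix_ok_run879 rfl).step (b := 112640) fix_ok_run880 rfl).step (b := 112768) fix_ok_run881 rfl).step (b := 112896) fix_ok_run882 rfl).step (b := 113024) fix_ok_run883 rfl).step (b := 113152) fix_ok_run884 rfl).step (b := 113280) fix_ok_run885 rfl).step (b := 113408) fix_ok_run886 rfl).step (b := 113536) fix_ok_run887 rfl).step (b := 113664) fix_ok_run888 rfl).step (b := 113792) fix_ok_run889 rfl).step (b := 113920) fix_ok_run890 rfl).step (b := 114048) fix_ok_run891 rfl).step (b := 114176) fix_ok_run892 rfl).step (b := 114304) fix_ok_run893 rfl).step (b := 114432)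 fix_ok_run894 rfl).step (b := 114560) fix_ok_run895 rfl).step (b := 114688) fix_ok_run896 rfl).step (b := 114816) fix_ok_run897 rfl).step (b := 114944) fix_ok_run898 rfl).step (b := 115072) fix_ok_run899 rfl).step (b := 115200) fix_ok_run900 rfl).step (b := 115328) fix_ok_run901 rfl).step (b := 115456) fix_ok_run902 rfl).step (b := 115584) fix_ok_run903 rfl).step (b := 115712) fix_ok_run904 rfl).step (b := 115840) fix_ok_run905 rfl).step (b := 115968) fix_ok_run906 rfl).step (b := 116096) fix_ok_run907 rfl).step (b := 116224) fix_ok_run908 rfl).step (b := 116352) fix_ok_run909 rfl).step (b := 116480) fix_ok_run910 rfl).step (b := 116608) fix_ok_run911 rfl).step (b := 116736) fix_ok_run912 rfl).step (b := 116864) fix_ok_run913 rfl).step (b := 116992) fix_ok_run914 rfl).step (b := 117120) fix_ok_run915 rfl).step (b := 117248) fix_ok_run916 rfl).step (b := 117376) fix_ok_run917 rfl).step (b := 117504) fix_ok_run918 rfl).step (b := 117632) fix_ok_run919 rfl).step (b := 117760) fix_ok_run920 rfl).step (b := 117888) fix_ok_run921 rfl).step (b := 118016)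 fix_ok_run922 rfl).step (b := 118144) fix_ok_run923 rfl).step (b := 118272) fix_ok_run924 rfl).step (b := 118400) fix_ok_run925 rfl).step (b := 118528) fix_ok_run926 rfl).step (b := 118656) fix_ok_run927 rfl).step (b := 118784) fix_ok_run928 rfl).step (b := 118912) fix_ok_run929 rfl).step (b := 119040) fix_ok_run930 rfl).step (b := 119168) fix_ok_run931 rfl).step (b := 119296) fix_ok_run932 rfl).step (b := 119424) fix_ok_run933 rfl).step (b := 119552) fix_ok_run934 rfl).step (b := 119680) fix_ok_run935 rfl).step (b := 119808) fix_ok_run936 rfl).step (b := 119936) fix_ok_run937 rfl).step (b := 120064) fix_ok_run938 rfl).step (b := 120192) fix_ok_run939 rfl).step (b := 120320) fix_ok_run940 rfl).step (b := 120448) fix_ok_run941 rfl).step (b := 120576) fix_ok_run942 rfl).step (b := 120704) fix_ok_run943 rfl).step (b := 120832) fix_ok_run944 rfl).step (b := 120960) fix_ok_run945 rfl).step (b := 121088) fix_ok_run946 rfl).step (b := 121216) fix_ok_run947 rfl).step (b := 121344) fix_ok_run948 rfl).step (b := 121472) fix_ok_run949 rfl).step (b := 121600)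 fix_ok_run950 rfl).step (b := 121728) fix_ok_run951 rfl).step (b := 121856) fix_ok_run952 rfl).step (b := 121984) fix_ok_run953 rfl).step (b := 122112) fix_ok_run954 rfl).step (b := 122240) fix_ok_run955 rfl).step (b := 122368) fix_ok_run956 rfl).step (b := 122496) fix_ok_run957 rfl).step (b := 122624) fix_ok_run958 rfl).step (b := 122752) fix_ok_run959 rfl).step (b := 122760) fix_ok_run960 rfl

end Cfsg.Agent.Lib.CosetTable.ON122760
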