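import Cfsg.Agent.Lib.CosetTable.Big.Action
import Cfsg.Agent.Lib.CosetTable.ON122760.TableOK
import Cfsg.Agent.Lib.CosetTable.ON122760.Steps1
import Cfsg.Agent.Lib.CosetTable.ON122760.Steps2
import Cfsg.Agent.Lib.CosetTable.ON122760.Steps3
import Cfsg.Agent.Lib.CosetTable.ON122760.Steps4
import Cfsg.Agent.Lib.CosetTable.ON122760.Steps5
import Cfsg.Agent.Lib.CosetTable.ON122760.Steps6
import Cfsg.Agent.Lib.CosetTable.ON122760.Steps7
import Cfsg.Agent.Lib.CosetTable.ON122760.Steps8
import Cfsg.Agent.Lib.CosetTable.ON122760.Steps9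
import Cfsg.Agent.Lib.CosetTable.ON122760.Steps10
import Cfsg.Agent.Lib.CosetTable.ON122760.Steps11
import Cfsg.Agent.Lib.CosetTable.ON122760.Steps12
import Cfsg.Agent.Lib.CosetTable.ON122760.Steps13
import Cfsg.Agent.Lib.CosetTable.ON122760.Steps14
import Cfsg.Agent.Lib.CosetTable.ON122760.Steps15
import Cfsg.Agent.Lib.CosetTable.ON122760.Steps16
import Cfsg.Agent.Lib.CosetTable.ON122760.Steps17

/-! Generated certificate data for the coset table `ON122760`. -/

namespace Cfsg.Agent.Lib.CosetTable.ON122760

open Cfsg.Agent.Lib.CosetTable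

theorem words_ok : cert.wordsOK = true := by decide +kernel

theorem checked : Big.Checked cert tab 796902 where
  same := rfl
  pos := by decide +kernel
  rules := by decide +kernel
  steps := (part17 (part16 (part15 (part14 (part13 (part12 (part11 (part10 (part9 (part8 (part7 (part6 (part5 (part4 (part3 (part2 (part1 (Cert.Upto.zero _))))))))))))))))))
  rows := rows_ok
  relFix := fix_ok
  subFix := by decide +kernel

end Cfsg.Agent.Lib.CosetTable.ON122760
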