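import Cfsg.Agent.Lib.CosetTable.Sound
import Cfsg.Agent.Lib.CosetTable.ON122760.Data

/-! Generated certificate data for the coset table `ON122760`. -/

namespace Cfsg.Agent.Lib.CosetTable.ON122760

open Cfsg.Agent.Lib.CosetTable

set_option Elab.async false
set_option maxRecDepth 10000

theorem fix_ok_run577 : rangeAll (tab.fixOK cert.rels) 128 73728 = true := by decide +kernel

theorem fix_ok_run578 : rangeAll (tab.fixOK cert.rels) 128 73856 = true := by decide +kernel

theorem fix_ok_run579 : rangeAll (tab.fixOK cert.rels) 128 73984 = true := by decide +kernel

theorem fix_ok_run580 : rangeAll (tab.fixOK cert.rels) 128 74112 = true := by decide +kernel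

theorem fix_ok_run581 : rangeAll (tab.fixOK cert.rels) 128 74240 = true := by decide +kernel

theorem fix_ok_run582 : rangeAll (tab.fixOK cert.rels) 128 74368 = true := by decide +kernel

theorem fix_ok_run583 : rangeAll (tab.fixOK cert.rels) 128 74496 = true := by decide +kernel

theorem fix_ok_run584 : rangeAll (tab.fixOK cert.rels) 128 74624 = true := by decide +kernel

theorem fix_ok_run585 : rangeAll (tab.fixOK cert.rels) 128 74752 = true := by decide +kernel

theorem fix_ok_run586 : rangeAll (tab.fixOK cert.rels) 128 74880 = true := by decide +kernel

theorem fix_ok_run587 : rangeAll (tab.fixOK cert.rels) 128 75008 = true := by decide +kernel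

theorem fix_ok_run588 : rangeAll (tab.fixOK cert.rels) 128 75136 = true := by decide +kernel

theorem fix_ok_run589 : rangeAll (tab.fixOK cert.rels) 128 75264 = true := by decide +kernel

theorem fix_ok_run590 : rangeAll (tab.fixOK cert.rels) 128 75392 = true := by decide +kernel

theorem fix_ok_run591 : rangeAll (tab.fixOK cert.rels) 128 75520 = true := by decide +kernel

theorem fix_ok_run592 : rangeAll (tab.fixOK cert.rels) 128 75648 = true := by decide +kernel

theorem fix_ok_run593 : rangeAll (tab.fixOK cert.rels) 128 75776 = true := by decide +kernel

theorem fix_ok_run594 : rangeAll (tab.fixOK cert.rels) 128 75904 = true := by decide +kernel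

theorem fix_ok_run595 : rangeAll (tab.fixOK cert.rels) 128 76032 = true := by decide +kernel

theorem fix_ok_run596 : rangeAll (tab.fixOK cert.rels) 128 76160 = true := by decide +kernel

theorem fix_ok_run597 : rangeAll (tab.fixOK cert.rels) 128 76288 = true := by decide +kernel

theorem fix_ok_run598 : rangeAll (tab.fixOK cert.rels) 128 76416 = true := by decide +kernel

theorem fix_ok_run599 : rangeAll (tab.fixOK cert.rels) 128 76544 = true := by decide +kernel

theorem fix_ok_run600 : rangeAll (tab.fixOK cert.rels) 128 76672 = true := by decide +kernel

theorem fix_ok_run601 : rangeAll (tab.fixOK cert.rels) 128 76800 = true := by decide +kernel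

theorem fix_ok_run602 : rangeAll (tab.fixOK cert.rels) 128 76928 = true := by decide +kernel

theorem fix_ok_run603 : rangeAll (tab.fixOK cert.rels) 128 77056 = true := by decide +kernel

theorem fix_ok_run604 : rangeAll (tab.fixOK cert.rels) 128 77184 = true := by decide +kernel

theorem fix_ok_run605 : rangeAll (tab.fixOK cert.rels) 128 77312 = true := by decide +kernel

theorem fix_ok_run606 : rangeAll (tab.fixOK cert.rels) 128 77440 = true := by decide +kernel

theorem fix_ok_run607 : rangeAll (tab.fixOK cert.rels) 128 77568 = true := by decide +kernel

theorem fix_ok_run608 : rangeAll (tab.fixOK cert.rels) 128 77696 = true := by decide +kernel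

theorem fix_ok_run609 : rangeAll (tab.fixOK cert.rels) 128 77824 = true := by decide +kernel

theorem fix_ok_run610 : rangeAll (tab.fixOK cert.rels) 128 77952 = true := by decide +kernel

theorem fix_ok_run611 : rangeAll (tab.fixOK cert.rels) 128 78080 = true := by decide +kernel

theorem fix_ok_run612 : rangeAll (tab.fixOK cert.rels) 128 78208 = true := by decide +kernel

theorem fix_ok_run613 : rangeAll (tab.fixOK cert.rels) 128 78336 = true := by decide +kernel

theorem fix_ok_run614 : rangeAll (tab.fixOK cert.rels) 128 78464 = true := by decide +kernel

theorem fix_ok_run615 : rangeAll (tab.fixOK cert.rels) 128 78592 = true := by decide +kernel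

theorem fix_ok_run616 : rangeAll (tab.fixOK cert.rels) 128 78720 = true := by decide +kernel

theorem fix_ok_run617 : rangeAll (tab.fixOK cert.rels) 128 78848 = true := by decide +kernel

theorem fix_ok_run618 : rangeAll (tab.fixOK cert.rels) 128 78976 = true := by decide +kernel

theorem fix_ok_run619 : rangeAll (tab.fixOK cert.rels) 128 79104 = true := by decide +kernel

theorem fix_ok_run620 : rangeAll (tab.fixOK cert.rels) 128 79232 = true := by decide +kernel

theorem fix_ok_run621 : rangeAll (tab.fixOK cert.rels) 128 79360 = true := by decide +kernel

theorem fix_ok_run622 : rangeAll (tab.fixOK cert.rels) 128 79488 = true := by decide +kernel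

theorem fix_ok_run623 : rangeAll (tab.fixOK cert.rels) 128 79616 = true := by decide +kernel

theorem fix_ok_run624 : rangeAll (tab.fixOK cert.rels) 128 79744 = true := by decide +kernel

theorem fix_ok_run625 : rangeAll (tab.fixOK cert.rels) 128 79872 = true := by decide +kernel

theorem fix_ok_run626 : rangeAll (tab.fixOK cert.rels) 128 80000 = true := by decide +kernel

theorem fix_ok_run627 : rangeAll (tab.fixOK cert.rels) 128 80128 = true := by decide +kernel

theorem fix_ok_run628 : rangeAll (tab.fixOK cert.rels) 128 80256 = true := by decide +kernel

theorem fix_ok_run629 : rangeAll (tab.fixOK cert.rels) 128 80384 = true := by decide +kernel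

theorem fix_ok_run630 : rangeAll (tab.fixOK cert.rels) 128 80512 = true := by decide +kernel

theorem fix_ok_run631 : rangeAll (tab.fixOK cert.rels) 128 80640 = true := by decide +kernel

theorem fix_ok_run632 : rangeAll (tab.fixOK cert.rels) 128 80768 = true := by decide +kernel

theorem fix_ok_run633 : rangeAll (tab.fixOK cert.rels) 128 80896 = true := by decide +kernel

theorem fix_ok_run634 : rangeAll (tab.fixOK cert.rels) 128 81024 = true := by decide +kernel

theorem fix_ok_run635 : rangeAll (tab.fixOK cert.rels) 128 81152 = true := by decide +kernel

theorem fix_ok_run636 : rangeAll (tab.fixOK cert.rels) 128 81280 = true := by decide +kernel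

theorem fix_ok_run637 : rangeAll (tab.fixOK cert.rels) 128 81408 = true := by decide +kernel

theorem fix_ok_run638 : rangeAll (tab.fixOK cert.rels) 128 81536 = true := by decide +kernel

theorem fix_ok_run639 : rangeAll (tab.fixOK cert.rels) 128 81664 = true := by decide +kernel

theorem fix_ok_run640 : rangeAll (tab.fixOK cert.rels) 128 81792 = true := by decide +kernel

end Cfsg.Agent.Lib.CosetTable.ON122760
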