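import Cfsg.Agent.Lib.CosetTable.Sound
import Cfsg.Agent.Lib.CosetTable.ON122760.Data

/-! Generated certificate data for the coset table `ON122760`. -/

namespace Cfsg.Agent.Lib.CosetTable.ON122760

open Cfsg.Agent.Lib.CosetTable

set_option Elab.async false
set_option maxRecDepth 10000

theorem rows_ok_run1 : rangeAll (tab.rowOK cert 796902) 256 0 = true := by decide +kernel

theorem rows_ok_run2 : rangeAll (tab.rowOK cert 796902) 256 256 = true := by decide +kernel

theorem rows_ok_run3 : rangeAll (tab.rowOK cert 796902) 256 512 = true := by decide +kernel

theorem rows_ok_run4 : rangeAll (tab.rowOK cert 796902) 256 768 = true := by decide +kernel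

theorem rows_ok_run5 : rangeAll (tab.rowOK cert 796902) 256 1024 = true := by decide +kernel

theorem rows_ok_run6 : rangeAll (tab.rowOK cert 796902) 256 1280 = true := by decide +kernel

theorem rows_ok_run7 : rangeAll (tab.rowOK cert 796902) 256 1536 = true := by decide +kernel

theorem rows_ok_run8 : rangeAll (tab.rowOK cert 796902) 256 1792 = true := by decide +kernel

theorem rows_ok_run9 : rangeAll (tab.rowOK cert 796902) 256 2048 = true := by decide +kernel

theorem rows_ok_run10 : rangeAll (tab.rowOK cert 796902) 256 2304 = true := by decide +kernel

theorem rows_ok_run11 : rangeAll (tab.rowOK cert 796902) 256 2560 = true := by decide +kernel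

theorem rows_ok_run12 : rangeAll (tab.rowOK cert 796902) 256 2816 = true := by decide +kernel

theorem rows_ok_run13 : rangeAll (tab.rowOK cert 796902) 256 3072 = true := by decide +kernel

theorem rows_ok_run14 : rangeAll (tab.rowOK cert 796902) 256 3328 = true := by decide +kernel

theorem rows_ok_run15 : rangeAll (tab.rowOK cert 796902) 256 3584 = true := by decide +kernel

theorem rows_ok_run16 : rangeAll (tab.rowOK cert 796902) 256 3840 = true := by decide +kernel

theorem rows_ok_run17 : rangeAll (tab.rowOK cert 796902) 256 4096 = true := by decide +kernel

theorem rows_ok_run18 : rangeAll (tab.rowOK cert 796902) 256 4352 = true := by decide +kernel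

theorem rows_ok_run19 : rangeAll (tab.rowOK cert 796902) 256 4608 = true := by decide +kernel

theorem rows_ok_run20 : rangeAll (tab.rowOK cert 796902) 256 4864 = true := by decide +kernel

theorem rows_ok_run21 : rangeAll (tab.rowOK cert 796902) 256 5120 = true := by decide +kernel

theorem rows_ok_run22 : rangeAll (tab.rowOK cert 796902) 256 5376 = true := by decide +kernel

theorem rows_ok_run23 : rangeAll (tab.rowOK cert 796902) 256 5632 = true := by decide +kernel

theorem rows_ok_run24 : rangeAll (tab.rowOK cert 796902) 256 5888 = true := by decide +kernel

theorem rows_ok_run25 : rangeAll (tab.rowOK cert 796902) 256 6144 = true := by decide +kernel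

theorem rows_ok_run26 : rangeAll (tab.rowOK cert 796902) 256 6400 = true := by decide +kernel

theorem rows_ok_run27 : rangeAll (tab.rowOK cert 796902) 256 6656 = true := by decide +kernel

theorem rows_ok_run28 : rangeAll (tab.rowOK cert 796902) 256 6912 = true := by decide +kernel

theorem rows_ok_run29 : rangeAll (tab.rowOK cert 796902) 256 7168 = true := by decide +kernel

theorem rows_ok_run30 : rangeAll (tab.rowOK cert 796902) 256 7424 = true := by decide +kernel

theorem rows_ok_run31 : rangeAll (tab.rowOK cert 796902) 256 7680 = true := by decide +kernel

theorem rows_ok_run32 : rangeAll (tab.rowOK cert 796902) 256 7936 = true := by decide +kernel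

theorem rows_ok_run33 : rangeAll (tab.rowOK cert 796902) 256 8192 = true := by decide +kernel

theorem rows_ok_run34 : rangeAll (tab.rowOK cert 796902) 256 8448 = true := by decide +kernel

theorem rows_ok_run35 : rangeAll (tab.rowOK cert 796902) 256 8704 = true := by decide +kernel

theorem rows_ok_run36 : rangeAll (tab.rowOK cert 796902) 256 8960 = true := by decide +kernel

theorem rows_ok_run37 : rangeAll (tab.rowOK cert 796902) 256 9216 = true := by decide +kernel

theorem rows_ok_run38 : rangeAll (tab.rowOK cert 796902) 256 9472 = true := by decide +kernel

theorem rows_ok_run39 : rangeAll (tab.rowOK cert 796902) 256 9728 = true := by decide +kernel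

theorem rows_ok_run40 : rangeAll (tab.rowOK cert 796902) 256 9984 = true := by decide +kernel

theorem rows_ok_run41 : rangeAll (tab.rowOK cert 796902) 256 10240 = true := by decide +kernel

theorem rows_ok_run42 : rangeAll (tab.rowOK cert 796902) 256 10496 = true := by decide +kernel

theorem rows_ok_run43 : rangeAll (tab.rowOK cert 796902) 256 10752 = true := by decide +kernel

theorem rows_ok_run44 : rangeAll (tab.rowOK cert 796902) 256 11008 = true := by decide +kernel

theorem rows_ok_run45 : rangeAll (tab.rowOK cert 796902) 256 11264 = true := by decide +kernel

theorem rows_ok_run46 : rangeAll (tab.rowOK cert 796902) 256 11520 = true := by decide +kernel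

theorem rows_ok_run47 : rangeAll (tab.rowOK cert 796902) 256 11776 = true := by decide +kernel

theorem rows_ok_run48 : rangeAll (tab.rowOK cert 796902) 256 12032 = true := by decide +kernel

theorem rows_ok_run49 : rangeAll (tab.rowOK cert 796902) 256 12288 = true := by decide +kernel

theorem rows_ok_run50 : rangeAll (tab.rowOK cert 796902) 256 12544 = true := by decide +kernel

theorem rows_ok_run51 : rangeAll (tab.rowOK cert 796902) 256 12800 = true := by decide +kernel

theorem rows_ok_run52 : rangeAll (tab.rowOK cert 796902) 256 13056 = true := by decide +kernel

theorem rows_ok_run53 : rangeAll (tab.rowOK cert 796902) 256 13312 = true := by decide +kernel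

theorem rows_ok_run54 : rangeAll (tab.rowOK cert 796902) 256 13568 = true := by decide +kernel

theorem rows_ok_run55 : rangeAll (tab.rowOK cert 796902) 256 13824 = true := by decide +kernel

theorem rows_ok_run56 : rangeAll (tab.rowOK cert 796902) 256 14080 = true := by decide +kernel

theorem rows_ok_run57 : rangeAll (tab.rowOK cert 796902) 256 14336 = true := by decide +kernel

theorem rows_ok_run58 : rangeAll (tab.rowOK cert 796902) 256 14592 = true := by decide +kernel

theorem rows_ok_run59 : rangeAll (tab.rowOK cert 796902) 256 14848 = true := by decide +kernel

theorem rows_ok_run60 : rangeAll (tab.rowOK cert 796902) 256 15104 = true := by decide +kernel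

theorem rows_ok_run61 : rangeAll (tab.rowOK cert 796902) 256 15360 = true := by decide +kernel

theorem rows_ok_run62 : rangeAll (tab.rowOK cert 796902) 256 15616 = true := by decide +kernel

theorem rows_ok_run63 : rangeAll (tab.rowOK cert 796902) 256 15872 = true := by decide +kernel

theorem rows_ok_run64 : rangeAll (tab.rowOK cert 796902) 256 16128 = true := by decide +kernel

theorem rows_ok_run65 : rangeAll (tab.rowOK cert 796902) 256 16384 = true := by decide +kernel

theorem rows_ok_run66 : rangeAll (tab.rowOK cert 796902) 256 16640 = true := by decide +kernel

theorem rows_ok_run67 : rangeAll (tab.rowOK cert 796902) 256 16896 = true := by decide +kernel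

theorem rows_ok_run68 : rangeAll (tab.rowOK cert 796902) 256 17152 = true := by decide +kernel

theorem rows_ok_run69 : rangeAll (tab.rowOK cert 796902) 256 17408 = true := by decide +kernel

theorem rows_ok_run70 : rangeAll (tab.rowOK cert 796902) 256 17664 = true := by decide +kernel

theorem rows_ok_run71 : rangeAll (tab.rowOK cert 796902) 256 17920 = true := by decide +kernel

theorem rows_ok_run72 : rangeAll (tab.rowOK cert 796902) 256 18176 = true := by decide +kernel

theorem rows_ok_run73 : rangeAll (tab.rowOK cert 796902) 256 18432 = true := by decide +kernel

theorem rows_ok_run74 : rangeAll (tab.rowOK cert 796902) 256 18688 = true := by decide +kernel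

theorem rows_ok_run75 : rangeAll (tab.rowOK cert 796902) 256 18944 = true := by decide +kernel

theorem rows_ok_run76 : rangeAll (tab.rowOK cert 796902) 256 19200 = true := by decide +kernel

theorem rows_ok_run77 : rangeAll (tab.rowOK cert 796902) 256 19456 = true := by decide +kernel

theorem rows_ok_run78 : rangeAll (tab.rowOK cert 796902) 256 19712 = true := by decide +kernel

theorem rows_ok_run79 : rangeAll (tab.rowOK cert 796902) 256 19968 = true := by decide +kernel

theorem rows_ok_run80 : rangeAll (tab.rowOK cert 796902) 256 20224 = true := by decide +kernel

theorem rows_ok_run81 : rangeAll (tab.rowOK cert 796902) 256 20480 = true := by decide +kernel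

theorem rows_ok_run82 : rangeAll (tab.rowOK cert 796902) 256 20736 = true := by decide +kernel

theorem rows_ok_run83 : rangeAll (tab.rowOK cert 796902) 256 20992 = true := by decide +kernel

theorem rows_ok_run84 : rangeAll (tab.rowOK cert 796902) 256 21248 = true := by decide +kernel

theorem rows_ok_run85 : rangeAll (tab.rowOK cert 796902) 256 21504 = true := by decide +kernel

theorem rows_ok_run86 : rangeAll (tab.rowOK cert 796902) 256 21760 = true := by decide +kernel

theorem rows_ok_run87 : rangeAll (tab.rowOK cert 796902) 256 22016 = true := by decide +kernel

theorem rows_ok_run88 : rangeAll (tab.rowOK cert 796902) 256 22272 = true := by decide +kernel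

theorem rows_ok_run89 : rangeAll (tab.rowOK cert 796902) 256 22528 = true := by decide +kernel

theorem rows_ok_run90 : rangeAll (tab.rowOK cert 796902) 256 22784 = true := by decide +kernel

theorem rows_ok_run91 : rangeAll (tab.rowOK cert 796902) 256 23040 = true := by decide +kernel

theorem rows_ok_run92 : rangeAll (tab.rowOK cert 796902) 256 23296 = true := by decide +kernel

theorem rows_ok_run93 : rangeAll (tab.rowOK cert 796902) 256 23552 = true := by decide +kernel

theorem rows_ok_run94 : rangeAll (tab.rowOK cert 796902) 256 23808 = true := by decide +kernel

theorem rows_ok_run95 : rangeAll (tab.rowOK cert 796902) 256 24064 = true := by decide +kernel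

theorem rows_ok_run96 : rangeAll (tab.rowOK cert 796902) 256 24320 = true := by decide +kernel

theorem rows_ok_run97 : rangeAll (tab.rowOK cert 796902) 256 24576 = true := by decide +kernel

theorem rows_ok_run98 : rangeAll (tab.rowOK cert 796902) 256 24832 = true := by decide +kernel

theorem rows_ok_run99 : rangeAll (tab.rowOK cert 796902) 256 25088 = true := by decide +kernel

theorem rows_ok_run100 : rangeAll (tab.rowOK cert 796902) 256 25344 = true := by decide +kernel

theorem rows_ok_run101 : rangeAll (tab.rowOK cert 796902) 256 25600 = true := by decide +kernel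

theorem rows_ok_run102 : rangeAll (tab.rowOK cert 796902) 256 25856 = true := by decide +kernel

theorem rows_ok_run103 : rangeAll (tab.rowOK cert 796902) 256 26112 = true := by decide +kernel

theorem rows_ok_run104 : rangeAll (tab.rowOK cert 796902) 256 26368 = true := by decide +kernel

theorem rows_ok_run105 : rangeAll (tab.rowOK cert 796902) 256 26624 = true := by decide +kernel

theorem rows_ok_run106 : rangeAll (tab.rowOK cert 796902) 256 26880 = true := by decide +kernel

theorem rows_ok_run107 : rangeAll (tab.rowOK cert 796902) 256 27136 = true := by decide +kernel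

theorem rows_ok_run108 : rangeAll (tab.rowOK cert 796902) 256 27392 = true := by decide +kernel

theorem rows_ok_run109 : rangeAll (tab.rowOK cert 796902) 256 27648 = true := by decide +kernel

theorem rows_ok_run110 : rangeAll (tab.rowOK cert 796902) 256 27904 = true := by decide +kernel

theorem rows_ok_run111 : rangeAll (tab.rowOK cert 796902) 256 28160 = true := by decide +kernel

theorem rows_ok_run112 : rangeAll (tab.rowOK cert 796902) 256 28416 = true := by decide +kernel

theorem rows_ok_run113 : rangeAll (tab.rowOK cert 796902) 256 28672 = true := by decide +kernel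

theorem rows_ok_run114 : rangeAll (tab.rowOK cert 796902) 256 28928 = true := by decide +kernel

theorem rows_ok_run115 : rangeAll (tab.rowOK cert 796902) 256 29184 = true := by decide +kernel

theorem rows_ok_run116 : rangeAll (tab.rowOK cert 796902) 256 29440 = true := by decide +kernel

theorem rows_ok_run117 : rangeAll (tab.rowOK cert 796902) 256 29696 = true := by decide +kernel

theorem rows_ok_run118 : rangeAll (tab.rowOK cert 796902) 256 29952 = true := by decide +kernel

theorem rows_ok_run119 : rangeAll (tab.rowOK cert 796902) 256 30208 = true := by decide +kernel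

theorem rows_ok_run120 : rangeAll (tab.rowOK cert 796902) 256 30464 = true := by decide +kernel

theorem rows_ok_run121 : rangeAll (tab.rowOK cert 796902) 256 30720 = true := by decide +kernel

theorem rows_ok_run122 : rangeAll (tab.rowOK cert 796902) 256 30976 = true := by decide +kernel

theorem rows_ok_run123 : rangeAll (tab.rowOK cert 796902) 256 31232 = true := by decide +kernel

theorem rows_ok_run124 : rangeAll (tab.rowOK cert 796902) 256 31488 = true := by decide +kernel

theorem rows_ok_run125 : rangeAll (tab.rowOK cert 796902) 256 31744 = true := by decide +kernel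

theorem rows_ok_run126 : rangeAll (tab.rowOK cert 796902) 256 32000 = true := by decide +kernel

theorem rows_ok_run127 : rangeAll (tab.rowOK cert 796902) 256 32256 = true := by decide +kernel

theorem rows_ok_run128 : rangeAll (tab.rowOK cert 796902) 256 32512 = true := by decide +kernel

theorem rows_ok_run129 : rangeAll (tab.rowOK cert 796902) 256 32768 = true := by decide +kernel

theorem rows_ok_run130 : rangeAll (tab.rowOK cert 796902) 256 33024 = true := by decide +kernel

theorem rows_ok_run131 : rangeAll (tab.rowOK cert 796902) 256 33280 = true := by decide +kernel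

theorem rows_ok_run132 : rangeAll (tab.rowOK cert 796902) 256 33536 = true := by decide +kernel

theorem rows_ok_run133 : rangeAll (tab.rowOK cert 796902) 256 33792 = true := by decide +kernel

theorem rows_ok_run134 : rangeAll (tab.rowOK cert 796902) 256 34048 = true := by decide +kernel

theorem rows_ok_run135 : rangeAll (tab.rowOK cert 796902) 256 34304 = true := by decide +kernel

theorem rows_ok_run136 : rangeAll (tab.rowOK cert 796902) 256 34560 = true := by decide +kernel

theorem rows_ok_run137 : rangeAll (tab.rowOK cert 796902) 256 34816 = true := by decide +kernel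

theorem rows_ok_run138 : rangeAll (tab.rowOK cert 796902) 256 35072 = true := by decide +kernel

theorem rows_ok_run139 : rangeAll (tab.rowOK cert 796902) 256 35328 = true := by decide +kernel

theorem rows_ok_run140 : rangeAll (tab.rowOK cert 796902) 256 35584 = true := by decide +kernel

theorem rows_ok_run141 : rangeAll (tab.rowOK cert 796902) 256 35840 = true := by decide +kernel

theorem rows_ok_run142 : rangeAll (tab.rowOK cert 796902) 256 36096 = true := by decide +kernel

theorem rows_ok_run143 : rangeAll (tab.rowOK cert 796902) 256 36352 = true := by decide +kernel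

theorem rows_ok_run144 : rangeAll (tab.rowOK cert 796902) 256 36608 = true := by decide +kernel

theorem rows_ok_run145 : rangeAll (tab.rowOK cert 796902) 256 36864 = true := by decide +kernel

theorem rows_ok_run146 : rangeAll (tab.rowOK cert 796902) 256 37120 = true := by decide +kernel

theorem rows_ok_run147 : rangeAll (tab.rowOK cert 796902) 256 37376 = true := by decide +kernel

theorem rows_ok_run148 : rangeAll (tab.rowOK cert 796902) 256 37632 = true := by decide +kernel

theorem rows_ok_run149 : rangeAll (tab.rowOK cert 796902) 256 37888 = true := by decide +kernel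

theorem rows_ok_run150 : rangeAll (tab.rowOK cert 796902) 256 38144 = true := by decide +kernel

theorem rows_ok_run151 : rangeAll (tab.rowOK cert 796902) 256 38400 = true := by decide +kernel

theorem rows_ok_run152 : rangeAll (tab.rowOK cert 796902) 256 38656 = true := by decide +kernel

theorem rows_ok_run153 : rangeAll (tab.rowOK cert 796902) 256 38912 = true := by decide +kernel

theorem rows_ok_run154 : rangeAll (tab.rowOK cert 796902) 256 39168 = true := by decide +kernel

theorem rows_ok_run155 : rangeAll (tab.rowOK cert 796902) 256 39424 = true := by decide +kernel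

theorem rows_ok_run156 : rangeAll (tab.rowOK cert 796902) 256 39680 = true := by decide +kernel

theorem rows_ok_run157 : rangeAll (tab.rowOK cert 796902) 256 39936 = true := by decide +kernel

theorem rows_ok_run158 : rangeAll (tab.rowOK cert 796902) 256 40192 = true := by decide +kernel

theorem rows_ok_run159 : rangeAll (tab.rowOK cert 796902) 256 40448 = true := by decide +kernel

theorem rows_ok_run160 : rangeAll (tab.rowOK cert 796902) 256 40704 = true := by decide +kernel

theorem rows_ok_run161 : rangeAll (tab.rowOK cert 796902) 256 40960 = true := by decide +kernel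

theorem rows_ok_run162 : rangeAll (tab.rowOK cert 796902) 256 41216 = true := by decide +kernel

theorem rows_ok_run163 : rangeAll (tab.rowOK cert 796902) 256 41472 = true := by decide +kernel

theorem rows_ok_run164 : rangeAll (tab.rowOK cert 796902) 256 41728 = true := by decide +kernel

theorem rows_ok_run165 : rangeAll (tab.rowOK cert 796902) 256 41984 = true := by decide +kernel

theorem rows_ok_run166 : rangeAll (tab.rowOK cert 796902) 256 42240 = true := by decide +kernel

theorem rows_ok_run167 : rangeAll (tab.rowOK cert 796902) 256 42496 = true := by decide +kernel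

theorem rows_ok_run168 : rangeAll (tab.rowOK cert 796902) 256 42752 = true := by decide +kernel

theorem rows_ok_run169 : rangeAll (tab.rowOK cert 796902) 256 43008 = true := by decide +kernel

theorem rows_ok_run170 : rangeAll (tab.rowOK cert 796902) 256 43264 = true := by decide +kernel

theorem rows_ok_run171 : rangeAll (tab.rowOK cert 796902) 256 43520 = true := by decide +kernel

theorem rows_ok_run172 : rangeAll (tab.rowOK cert 796902) 256 43776 = true := by decide +kernel

theorem rows_ok_run173 : rangeAll (tab.rowOK cert 796902) 256 44032 = true := by decide +kernel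

theorem rows_ok_run174 : rangeAll (tab.rowOK cert 796902) 256 44288 = true := by decide +kernel

theorem rows_ok_run175 : rangeAll (tab.rowOK cert 796902) 256 44544 = true := by decide +kernel

theorem rows_ok_run176 : rangeAll (tab.rowOK cert 796902) 256 44800 = true := by decide +kernel

theorem rows_ok_run177 : rangeAll (tab.rowOK cert 796902) 256 45056 = true := by decide +kernel

theorem rows_ok_run178 : rangeAll (tab.rowOK cert 796902) 256 45312 = true := by decide +kernel

theorem rows_ok_run179 : rangeAll (tab.rowOK cert 796902) 256 45568 = true := by decide +kernel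

theorem rows_ok_run180 : rangeAll (tab.rowOK cert 796902) 256 45824 = true := by decide +kernel

theorem rows_ok_run181 : rangeAll (tab.rowOK cert 796902) 256 46080 = true := by decide +kernel

theorem rows_ok_run182 : rangeAll (tab.rowOK cert 796902) 256 46336 = true := by decide +kernel

theorem rows_ok_run183 : rangeAll (tab.rowOK cert 796902) 256 46592 = true := by decide +kernel

theorem rows_ok_run184 : rangeAll (tab.rowOK cert 796902) 256 46848 = true := by decide +kernel

theorem rows_ok_run185 : rangeAll (tab.rowOK cert 796902) 256 47104 = true := by decide +kernel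

theorem rows_ok_run186 : rangeAll (tab.rowOK cert 796902) 256 47360 = true := by decide +kernel

theorem rows_ok_run187 : rangeAll (tab.rowOK cert 796902) 256 47616 = true := by decide +kernel

theorem rows_ok_run188 : rangeAll (tab.rowOK cert 796902) 256 47872 = true := by decide +kernel

theorem rows_ok_run189 : rangeAll (tab.rowOK cert 796902) 256 48128 = true := by decide +kernel

theorem rows_ok_run190 : rangeAll (tab.rowOK cert 796902) 256 48384 = true := by decide +kernel

theorem rows_ok_run191 : rangeAll (tab.rowOK cert 796902) 256 48640 = true := by decide +kernel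

theorem rows_ok_run192 : rangeAll (tab.rowOK cert 796902) 256 48896 = true := by decide +kernel

theorem rows_ok_run193 : rangeAll (tab.rowOK cert 796902) 256 49152 = true := by decide +kernel

theorem rows_ok_run194 : rangeAll (tab.rowOK cert 796902) 256 49408 = true := by decide +kernel

theorem rows_ok_run195 : rangeAll (tab.rowOK cert 796902) 256 49664 = true := by decide +kernel

theorem rows_ok_run196 : rangeAll (tab.rowOK cert 796902) 256 49920 = true := by decide +kernel

theorem rows_ok_run197 : rangeAll (tab.rowOK cert 796902) 256 50176 = true := by decide +kernel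

theorem rows_ok_run198 : rangeAll (tab.rowOK cert 796902) 256 50432 = true := by decide +kernel

theorem rows_ok_run199 : rangeAll (tab.rowOK cert 796902) 256 50688 = true := by decide +kernel

theorem rows_ok_run200 : rangeAll (tab.rowOK cert 796902) 256 50944 = true := by decide +kernel

theorem rows_ok_run201 : rangeAll (tab.rowOK cert 796902) 256 51200 = true := by decide +kernel

theorem rows_ok_run202 : rangeAll (tab.rowOK cert 796902) 256 51456 = true := by decide +kernel

theorem rows_ok_run203 : rangeAll (tab.rowOK cert 796902) 256 51712 = true := by decide +kernel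

theorem rows_ok_run204 : rangeAll (tab.rowOK cert 796902) 256 51968 = true := by decide +kernel

theorem rows_ok_run205 : rangeAll (tab.rowOK cert 796902) 256 52224 = true := by decide +kernel

theorem rows_ok_run206 : rangeAll (tab.rowOK cert 796902) 256 52480 = true := by decide +kernel

theorem rows_ok_run207 : rangeAll (tab.rowOK cert 796902) 256 52736 = true := by decide +kernel

theorem rows_ok_run208 : rangeAll (tab.rowOK cert 796902) 256 52992 = true := by decide +kernel

theorem rows_ok_run209 : rangeAll (tab.rowOK cert 796902) 256 53248 = true := by decide +kernel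

theorem rows_ok_run210 : rangeAll (tab.rowOK cert 796902) 256 53504 = true := by decide +kernel

theorem rows_ok_run211 : rangeAll (tab.rowOK cert 796902) 256 53760 = true := by decide +kernel

theorem rows_ok_run212 : rangeAll (tab.rowOK cert 796902) 256 54016 = true := by decide +kernel

theorem rows_ok_run213 : rangeAll (tab.rowOK cert 796902) 256 54272 = true := by decide +kernel

theorem rows_ok_run214 : rangeAll (tab.rowOK cert 796902) 256 54528 = true := by decide +kernel

theorem rows_ok_run215 : rangeAll (tab.rowOK cert 796902) 256 54784 = true := by decide +kernel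

theorem rows_ok_run216 : rangeAll (tab.rowOK cert 796902) 256 55040 = true := by decide +kernel

theorem rows_ok_run217 : rangeAll (tab.rowOK cert 796902) 256 55296 = true := by decide +kernel

theorem rows_ok_run218 : rangeAll (tab.rowOK cert 796902) 256 55552 = true := by decide +kernel

theorem rows_ok_run219 : rangeAll (tab.rowOK cert 796902) 256 55808 = true := by decide +kernel

theorem rows_ok_run220 : rangeAll (tab.rowOK cert 796902) 256 56064 = true := by decide +kernel

theorem rows_ok_run221 : rangeAll (tab.rowOK cert 796902) 256 56320 = true := by decide +kernel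

theorem rows_ok_run222 : rangeAll (tab.rowOK cert 796902) 256 56576 = true := by decide +kernel

theorem rows_ok_run223 : rangeAll (tab.rowOK cert 796902) 256 56832 = true := by decide +kernel

theorem rows_ok_run224 : rangeAll (tab.rowOK cert 796902) 256 57088 = true := by decide +kernel

theorem rows_ok_run225 : rangeAll (tab.rowOK cert 796902) 256 57344 = true := by decide +kernel

theorem rows_ok_run226 : rangeAll (tab.rowOK cert 796902) 256 57600 = true := by decide +kernel

theorem rows_ok_run227 : rangeAll (tab.rowOK cert 796902) 256 57856 = true := by decide +kernel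

theorem rows_ok_run228 : rangeAll (tab.rowOK cert 796902) 256 58112 = true := by decide +kernel

theorem rows_ok_run229 : rangeAll (tab.rowOK cert 796902) 256 58368 = true := by decide +kernel

theorem rows_ok_run230 : rangeAll (tab.rowOK cert 796902) 256 58624 = true := by decide +kernel

theorem rows_ok_run231 : rangeAll (tab.rowOK cert 796902) 256 58880 = true := by decide +kernel

theorem rows_ok_run232 : rangeAll (tab.rowOK cert 796902) 256 59136 = true := by decide +kernel

theorem rows_ok_run233 : rangeAll (tab.rowOK cert 796902) 256 59392 = true := by decide +kernel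

theorem rows_ok_run234 : rangeAll (tab.rowOK cert 796902) 256 59648 = true := by decide +kernel

theorem rows_ok_run235 : rangeAll (tab.rowOK cert 796902) 256 59904 = true := by decide +kernel

theorem rows_ok_run236 : rangeAll (tab.rowOK cert 796902) 256 60160 = true := by decide +kernel

theorem rows_ok_run237 : rangeAll (tab.rowOK cert 796902) 256 60416 = true := by decide +kernel

theorem rows_ok_run238 : rangeAll (tab.rowOK cert 796902) 256 60672 = true := by decide +kernel

theorem rows_ok_run239 : rangeAll (tab.rowOK cert 796902) 256 60928 = true := by decide +kernel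

theorem rows_ok_run240 : rangeAll (tab.rowOK cert 796902) 256 61184 = true := by decide +kernel

theorem rows_ok_run241 : rangeAll (tab.rowOK cert 796902) 256 61440 = true := by decide +kernel

theorem rows_ok_run242 : rangeAll (tab.rowOK cert 796902) 256 61696 = true := by decide +kernel

theorem rows_ok_run243 : rangeAll (tab.rowOK cert 796902) 256 61952 = true := by decide +kernel

theorem rows_ok_run244 : rangeAll (tab.rowOK cert 796902) 256 62208 = true := by decide +kernel

theorem rows_ok_run245 : rangeAll (tab.rowOK cert 796902) 256 62464 = true := by decide +kernel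

theorem rows_ok_run246 : rangeAll (tab.rowOK cert 796902) 256 62720 = true := by decide +kernel

theorem rows_ok_run247 : rangeAll (tab.rowOK cert 796902) 256 62976 = true := by decide +kernel

theorem rows_ok_run248 : rangeAll (tab.rowOK cert 796902) 256 63232 = true := by decide +kernel

theorem rows_ok_run249 : rangeAll (tab.rowOK cert 796902) 256 63488 = true := by decide +kernel

theorem rows_ok_run250 : rangeAll (tab.rowOK cert 796902) 256 63744 = true := by decide +kernel

theorem rows_ok_run251 : rangeAll (tab.rowOK cert 796902) 256 64000 = true := by decide +kernel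

theorem rows_ok_run252 : rangeAll (tab.rowOK cert 796902) 256 64256 = true := by decide +kernel

theorem rows_ok_run253 : rangeAll (tab.rowOK cert 796902) 256 64512 = true := by decide +kernel

theorem rows_ok_run254 : rangeAll (tab.rowOK cert 796902) 256 64768 = true := by decide +kernel

theorem rows_ok_run255 : rangeAll (tab.rowOK cert 796902) 256 65024 = true := by decide +kernel

theorem rows_ok_run256 : rangeAll (tab.rowOK cert 796902) 256 65280 = true := by decide +kernel

theorem rows_ok_run257 : rangeAll (tab.rowOK cert 796902) 256 65536 = true := by decide +kernel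

theorem rows_ok_run258 : rangeAll (tab.rowOK cert 796902) 256 65792 = true := by decide +kernel

theorem rows_ok_run259 : rangeAll (tab.rowOK cert 796902) 256 66048 = true := by decide +kernel

theorem rows_ok_run260 : rangeAll (tab.rowOK cert 796902) 256 66304 = true := by decide +kernel

theorem rows_ok_run261 : rangeAll (tab.rowOK cert 796902) 256 66560 = true := by decide +kernel

theorem rows_ok_run262 : rangeAll (tab.rowOK cert 796902) 256 66816 = true := by decide +kernel

theorem rows_ok_run263 : rangeAll (tab.rowOK cert 796902) 256 67072 = true := by decide +kernel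

theorem rows_ok_run264 : rangeAll (tab.rowOK cert 796902) 256 67328 = true := by decide +kernel

theorem rows_ok_run265 : rangeAll (tab.rowOK cert 796902) 256 67584 = true := by decide +kernel

theorem rows_ok_run266 : rangeAll (tab.rowOK cert 796902) 256 67840 = true := by decide +kernel

theorem rows_ok_run267 : rangeAll (tab.rowOK cert 796902) 256 68096 = true := by decide +kernel

theorem rows_ok_run268 : rangeAll (tab.rowOK cert 796902) 256 68352 = true := by decide +kernel

theorem rows_ok_run269 : rangeAll (tab.rowOK cert 796902) 256 68608 = true := by decide +kernel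

theorem rows_ok_run270 : rangeAll (tab.rowOK cert 796902) 256 68864 = true := by decide +kernel

theorem rows_ok_run271 : rangeAll (tab.rowOK cert 796902) 256 69120 = true := by decide +kernel

theorem rows_ok_run272 : rangeAll (tab.rowOK cert 796902) 256 69376 = true := by decide +kernel

theorem rows_ok_run273 : rangeAll (tab.rowOK cert 796902) 256 69632 = true := by decide +kernel

theorem rows_ok_run274 : rangeAll (tab.rowOK cert 796902) 256 69888 = true := by decide +kernel

theorem rows_ok_run275 : rangeAll (tab.rowOK cert 796902) 256 70144 = true := by decide +kernel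

theorem rows_ok_run276 : rangeAll (tab.rowOK cert 796902) 256 70400 = true := by decide +kernel

theorem rows_ok_run277 : rangeAll (tab.rowOK cert 796902) 256 70656 = true := by decide +kernel

theorem rows_ok_run278 : rangeAll (tab.rowOK cert 796902) 256 70912 = true := by decide +kernel

theorem rows_ok_run279 : rangeAll (tab.rowOK cert 796902) 256 71168 = true := by decide +kernel

theorem rows_ok_run280 : rangeAll (tab.rowOK cert 796902) 256 71424 = true := by decide +kernel

theorem rows_ok_run281 : rangeAll (tab.rowOK cert 796902) 256 71680 = true := by decide +kernel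

theorem rows_ok_run282 : rangeAll (tab.rowOK cert 796902) 256 71936 = true := by decide +kernel

theorem rows_ok_run283 : rangeAll (tab.rowOK cert 796902) 256 72192 = true := by decide +kernel

theorem rows_ok_run284 : rangeAll (tab.rowOK cert 796902) 256 72448 = true := by decide +kernel

theorem rows_ok_run285 : rangeAll (tab.rowOK cert 796902) 256 72704 = true := by decide +kernel

theorem rows_ok_run286 : rangeAll (tab.rowOK cert 796902) 256 72960 = true := by decide +kernel

theorem rows_ok_run287 : rangeAll (tab.rowOK cert 796902) 256 73216 = true := by decide +kernel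

theorem rows_ok_run288 : rangeAll (tab.rowOK cert 796902) 256 73472 = true := by decide +kernel

theorem rows_ok_run289 : rangeAll (tab.rowOK cert 796902) 256 73728 = true := by decide +kernel

theorem rows_ok_run290 : rangeAll (tab.rowOK cert 796902) 256 73984 = true := by decide +kernel

theorem rows_ok_run291 : rangeAll (tab.rowOK cert 796902) 256 74240 = true := by decide +kernel

theorem rows_ok_run292 : rangeAll (tab.rowOK cert 796902) 256 74496 = true := by decide +kernel

theorem rows_ok_run293 : rangeAll (tab.rowOK cert 796902) 256 74752 = true := by decide +kernel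

theorem rows_ok_run294 : rangeAll (tab.rowOK cert 796902) 256 75008 = true := by decide +kernel

theorem rows_ok_run295 : rangeAll (tab.rowOK cert 796902) 256 75264 = true := by decide +kernel

theorem rows_ok_run296 : rangeAll (tab.rowOK cert 796902) 256 75520 = true := by decide +kernel

theorem rows_ok_run297 : rangeAll (tab.rowOK cert 796902) 256 75776 = true := by decide +kernel

theorem rows_ok_run298 : rangeAll (tab.rowOK cert 796902) 256 76032 = true := by decide +kernel

theorem rows_ok_run299 : rangeAll (tab.rowOK cert 796902) 256 76288 = true := by decide +kernel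

theorem rows_ok_run300 : rangeAll (tab.rowOK cert 796902) 256 76544 = true := by decide +kernel

theorem rows_ok_run301 : rangeAll (tab.rowOK cert 796902) 256 76800 = true := by decide +kernel

theorem rows_ok_run302 : rangeAll (tab.rowOK cert 796902) 256 77056 = true := by decide +kernel

theorem rows_ok_run303 : rangeAll (tab.rowOK cert 796902) 256 77312 = true := by decide +kernel

theorem rows_ok_run304 : rangeAll (tab.rowOK cert 796902) 256 77568 = true := by decide +kernel

theorem rows_ok_run305 : rangeAll (tab.rowOK cert 796902) 256 77824 = true := by decide +kernel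

theorem rows_ok_run306 : rangeAll (tab.rowOK cert 796902) 256 78080 = true := by decide +kernel

theorem rows_ok_run307 : rangeAll (tab.rowOK cert 796902) 256 78336 = true := by decide +kernel

theorem rows_ok_run308 : rangeAll (tab.rowOK cert 796902) 256 78592 = true := by decide +kernel

theorem rows_ok_run309 : rangeAll (tab.rowOK cert 796902) 256 78848 = true := by decide +kernel

theorem rows_ok_run310 : rangeAll (tab.rowOK cert 796902) 256 79104 = true := by decide +kernel

theorem rows_ok_run311 : rangeAll (tab.rowOK cert 796902) 256 79360 = true := by decide +kernel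

theorem rows_ok_run312 : rangeAll (tab.rowOK cert 796902) 256 79616 = true := by decide +kernel

theorem rows_ok_run313 : rangeAll (tab.rowOK cert 796902) 256 79872 = true := by decide +kernel

theorem rows_ok_run314 : rangeAll (tab.rowOK cert 796902) 256 80128 = true := by decide +kernel

theorem rows_ok_run315 : rangeAll (tab.rowOK cert 796902) 256 80384 = true := by decide +kernel

theorem rows_ok_run316 : rangeAll (tab.rowOK cert 796902) 256 80640 = true := by decide +kernel

theorem rows_ok_run317 : rangeAll (tab.rowOK cert 796902) 256 80896 = true := by decide +kernel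

theorem rows_ok_run318 : rangeAll (tab.rowOK cert 796902) 256 81152 = true := by decide +kernel

theorem rows_ok_run319 : rangeAll (tab.rowOK cert 796902) 256 81408 = true := by decide +kernel

theorem rows_ok_run320 : rangeAll (tab.rowOK cert 796902) 256 81664 = true := by decide +kernel

theorem rows_ok_run321 : rangeAll (tab.rowOK cert 796902) 256 81920 = true := by decide +kernel

theorem rows_ok_run322 : rangeAll (tab.rowOK cert 796902) 256 82176 = true := by decide +kernel

theorem rows_ok_run323 : rangeAll (tab.rowOK cert 796902) 256 82432 = true := by decide +kernel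

theorem rows_ok_run324 : rangeAll (tab.rowOK cert 796902) 256 82688 = true := by decide +kernel

theorem rows_ok_run325 : rangeAll (tab.rowOK cert 796902) 256 82944 = true := by decide +kernel

theorem rows_ok_run326 : rangeAll (tab.rowOK cert 796902) 256 83200 = true := by decide +kernel

theorem rows_ok_run327 : rangeAll (tab.rowOK cert 796902) 256 83456 = true := by decide +kernel

theorem rows_ok_run328 : rangeAll (tab.rowOK cert 796902) 256 83712 = true := by decide +kernel

theorem rows_ok_run329 : rangeAll (tab.rowOK cert 796902) 256 83968 = true := by decide +kernel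

theorem rows_ok_run330 : rangeAll (tab.rowOK cert 796902) 256 84224 = true := by decide +kernel

theorem rows_ok_run331 : rangeAll (tab.rowOK cert 796902) 256 84480 = true := by decide +kernel

theorem rows_ok_run332 : rangeAll (tab.rowOK cert 796902) 256 84736 = true := by decide +kernel

theorem rows_ok_run333 : rangeAll (tab.rowOK cert 796902) 256 84992 = true := by decide +kernel

theorem rows_ok_run334 : rangeAll (tab.rowOK cert 796902) 256 85248 = true := by decide +kernel

theorem rows_ok_run335 : rangeAll (tab.rowOK cert 796902) 256 85504 = true := by decide +kernel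

theorem rows_ok_run336 : rangeAll (tab.rowOK cert 796902) 256 85760 = true := by decide +kernel

theorem rows_ok_run337 : rangeAll (tab.rowOK cert 796902) 256 86016 = true := by decide +kernel

theorem rows_ok_run338 : rangeAll (tab.rowOK cert 796902) 256 86272 = true := by decide +kernel

theorem rows_ok_run339 : rangeAll (tab.rowOK cert 796902) 256 86528 = true := by decide +kernel

theorem rows_ok_run340 : rangeAll (tab.rowOK cert 796902) 256 86784 = true := by decide +kernel

theorem rows_ok_run341 : rangeAll (tab.rowOK cert 796902) 256 87040 = true := by decide +kernel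

theorem rows_ok_run342 : rangeAll (tab.rowOK cert 796902) 256 87296 = true := by decide +kernel

theorem rows_ok_run343 : rangeAll (tab.rowOK cert 796902) 256 87552 = true := by decide +kernel

theorem rows_ok_run344 : rangeAll (tab.rowOK cert 796902) 256 87808 = true := by decide +kernel

theorem rows_ok_run345 : rangeAll (tab.rowOK cert 796902) 256 88064 = true := by decide +kernel

theorem rows_ok_run346 : rangeAll (tab.rowOK cert 796902) 256 88320 = true := by decide +kernel

theorem rows_ok_run347 : rangeAll (tab.rowOK cert 796902) 256 88576 = true := by decide +kernel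

theorem rows_ok_run348 : rangeAll (tab.rowOK cert 796902) 256 88832 = true := by decide +kernel

theorem rows_ok_run349 : rangeAll (tab.rowOK cert 796902) 256 89088 = true := by decide +kernel

theorem rows_ok_run350 : rangeAll (tab.rowOK cert 796902) 256 89344 = true := by decide +kernel

theorem rows_ok_run351 : rangeAll (tab.rowOK cert 796902) 256 89600 = true := by decide +kernel

theorem rows_ok_run352 : rangeAll (tab.rowOK cert 796902) 256 89856 = true := by decide +kernel

theorem rows_ok_run353 : rangeAll (tab.rowOK cert 796902) 256 90112 = true := by decide +kernel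

theorem rows_ok_run354 : rangeAll (tab.rowOK cert 796902) 256 90368 = true := by decide +kernel

theorem rows_ok_run355 : rangeAll (tab.rowOK cert 796902) 256 90624 = true := by decide +kernel

theorem rows_ok_run356 : rangeAll (tab.rowOK cert 796902) 256 90880 = true := by decide +kernel

theorem rows_ok_run357 : rangeAll (tab.rowOK cert 796902) 256 91136 = true := by decide +kernel

theorem rows_ok_run358 : rangeAll (tab.rowOK cert 796902) 256 91392 = true := by decide +kernel

theorem rows_ok_run359 : rangeAll (tab.rowOK cert 796902) 256 91648 = true := by decide +kernel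

theorem rows_ok_run360 : rangeAll (tab.rowOK cert 796902) 256 91904 = true := by decide +kernel

theorem rows_ok_run361 : rangeAll (tab.rowOK cert 796902) 256 92160 = true := by decide +kernel

theorem rows_ok_run362 : rangeAll (tab.rowOK cert 796902) 256 92416 = true := by decide +kernel

theorem rows_ok_run363 : rangeAll (tab.rowOK cert 796902) 256 92672 = true := by decide +kernel

theorem rows_ok_run364 : rangeAll (tab.rowOK cert 796902) 256 92928 = true := by decide +kernel

theorem rows_ok_run365 : rangeAll (tab.rowOK cert 796902) 256 93184 = true := by decide +kernel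

theorem rows_ok_run366 : rangeAll (tab.rowOK cert 796902) 256 93440 = true := by decide +kernel

theorem rows_ok_run367 : rangeAll (tab.rowOK cert 796902) 256 93696 = true := by decide +kernel

theorem rows_ok_run368 : rangeAll (tab.rowOK cert 796902) 256 93952 = true := by decide +kernel

theorem rows_ok_run369 : rangeAll (tab.rowOK cert 796902) 256 94208 = true := by decide +kernel

theorem rows_ok_run370 : rangeAll (tab.rowOK cert 796902) 256 94464 = true := by decide +kernel

theorem rows_ok_run371 : rangeAll (tab.rowOK cert 796902) 256 94720 = true := by decide +kernel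

theorem rows_ok_run372 : rangeAll (tab.rowOK cert 796902) 256 94976 = true := by decide +kernel

theorem rows_ok_run373 : rangeAll (tab.rowOK cert 796902) 256 95232 = true := by decide +kernel

theorem rows_ok_run374 : rangeAll (tab.rowOK cert 796902) 256 95488 = true := by decide +kernel

theorem rows_ok_run375 : rangeAll (tab.rowOK cert 796902) 256 95744 = true := by decide +kernel

theorem rows_ok_run376 : rangeAll (tab.rowOK cert 796902) 256 96000 = true := by decide +kernel

theorem rows_ok_run377 : rangeAll (tab.rowOK cert 796902) 256 96256 = true := by decide +kernel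

theorem rows_ok_run378 : rangeAll (tab.rowOK cert 796902) 256 96512 = true := by decide +kernel

theorem rows_ok_run379 : rangeAll (tab.rowOK cert 796902) 256 96768 = true := by decide +kernel

theorem rows_ok_run380 : rangeAll (tab.rowOK cert 796902) 256 97024 = true := by decide +kernel

theorem rows_ok_run381 : rangeAll (tab.rowOK cert 796902) 256 97280 = true := by decide +kernel

theorem rows_ok_run382 : rangeAll (tab.rowOK cert 796902) 256 97536 = true := by decide +kernel

theorem rows_ok_run383 : rangeAll (tab.rowOK cert 796902) 256 97792 = true := by decide +kernel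

theorem rows_ok_run384 : rangeAll (tab.rowOK cert 796902) 256 98048 = true := by decide +kernel

theorem rows_ok_run385 : rangeAll (tab.rowOK cert 796902) 256 98304 = true := by decide +kernel

theorem rows_ok_run386 : rangeAll (tab.rowOK cert 796902) 256 98560 = true := by decide +kernel

theorem rows_ok_run387 : rangeAll (tab.rowOK cert 796902) 256 98816 = true := by decide +kernel

theorem rows_ok_run388 : rangeAll (tab.rowOK cert 796902) 256 99072 = true := by decide +kernel

theorem rows_ok_run389 : rangeAll (tab.rowOK cert 796902) 256 99328 = true := by decide +kernel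

theorem rows_ok_run390 : rangeAll (tab.rowOK cert 796902) 256 99584 = true := by decide +kernel

theorem rows_ok_run391 : rangeAll (tab.rowOK cert 796902) 256 99840 = true := by decide +kernel

theorem rows_ok_run392 : rangeAll (tab.rowOK cert 796902) 256 100096 = true := by decide +kernel

theorem rows_ok_run393 : rangeAll (tab.rowOK cert 796902) 256 100352 = true := by decide +kernel

theorem rows_ok_run394 : rangeAll (tab.rowOK cert 796902) 256 100608 = true := by decide +kernel

theorem rows_ok_run395 : rangeAll (tab.rowOK cert 796902) 256 100864 = true := by decide +kernel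

theorem rows_ok_run396 : rangeAll (tab.rowOK cert 796902) 256 101120 = true := by decide +kernel

theorem rows_ok_run397 : rangeAll (tab.rowOK cert 796902) 256 101376 = true := by decide +kernel

theorem rows_ok_run398 : rangeAll (tab.rowOK cert 796902) 256 101632 = true := by decide +kernel

theorem rows_ok_run399 : rangeAll (tab.rowOK cert 796902) 256 101888 = true := by decide +kernel

theorem rows_ok_run400 : rangeAll (tab.rowOK cert 796902) 256 102144 = true := by decide +kernel

theorem rows_ok_run401 : rangeAll (tab.rowOK cert 796902) 256 102400 = true := by decide +kernel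

theorem rows_ok_run402 : rangeAll (tab.rowOK cert 796902) 256 102656 = true := by decide +kernel

theorem rows_ok_run403 : rangeAll (tab.rowOK cert 796902) 256 102912 = true := by decide +kernel

theorem rows_ok_run404 : rangeAll (tab.rowOK cert 796902) 256 103168 = true := by decide +kernel

theorem rows_ok_run405 : rangeAll (tab.rowOK cert 796902) 256 103424 = true := by decide +kernel

theorem rows_ok_run406 : rangeAll (tab.rowOK cert 796902) 256 103680 = true := by decide +kernel

theorem rows_ok_run407 : rangeAll (tab.rowOK cert 796902) 256 103936 = true := by decide +kernel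

theorem rows_ok_run408 : rangeAll (tab.rowOK cert 796902) 256 104192 = true := by decide +kernel

theorem rows_ok_run409 : rangeAll (tab.rowOK cert 796902) 256 104448 = true := by decide +kernel

theorem rows_ok_run410 : rangeAll (tab.rowOK cert 796902) 256 104704 = true := by decide +kernel

theorem rows_ok_run411 : rangeAll (tab.rowOK cert 796902) 256 104960 = true := by decide +kernel

theorem rows_ok_run412 : rangeAll (tab.rowOK cert 796902) 256 105216 = true := by decide +kernel

theorem rows_ok_run413 : rangeAll (tab.rowOK cert 796902) 256 105472 = true := by decide +kernel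

theorem rows_ok_run414 : rangeAll (tab.rowOK cert 796902) 256 105728 = true := by decide +kernel

theorem rows_ok_run415 : rangeAll (tab.rowOK cert 796902) 256 105984 = true := by decide +kernel

theorem rows_ok_run416 : rangeAll (tab.rowOK cert 796902) 256 106240 = true := by decide +kernel

theorem rows_ok_run417 : rangeAll (tab.rowOK cert 796902) 256 106496 = true := by decide +kernel

theorem rows_ok_run418 : rangeAll (tab.rowOK cert 796902) 256 106752 = true := by decide +kernel

theorem rows_ok_run419 : rangeAll (tab.rowOK cert 796902) 256 107008 = true := by decide +kernel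

theorem rows_ok_run420 : rangeAll (tab.rowOK cert 796902) 256 107264 = true := by decide +kernel

theorem rows_ok_run421 : rangeAll (tab.rowOK cert 796902) 256 107520 = true := by decide +kernel

theorem rows_ok_run422 : rangeAll (tab.rowOK cert 796902) 256 107776 = true := by decide +kernel

theorem rows_ok_run423 : rangeAll (tab.rowOK cert 796902) 256 108032 = true := by decide +kernel

theorem rows_ok_run424 : rangeAll (tab.rowOK cert 796902) 256 108288 = true := by decide +kernel

theorem rows_ok_run425 : rangeAll (tab.rowOK cert 796902) 256 108544 = true := by decide +kernel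

theorem rows_ok_run426 : rangeAll (tab.rowOK cert 796902) 256 108800 = true := by decide +kernel

theorem rows_ok_run427 : rangeAll (tab.rowOK cert 796902) 256 109056 = true := by decide +kernel

theorem rows_ok_run428 : rangeAll (tab.rowOK cert 796902) 256 109312 = true := by decide +kernel

theorem rows_ok_run429 : rangeAll (tab.rowOK cert 796902) 256 109568 = true := by decide +kernel

theorem rows_ok_run430 : rangeAll (tab.rowOK cert 796902) 256 109824 = true := by decide +kernel

theorem rows_ok_run431 : rangeAll (tab.rowOK cert 796902) 256 110080 = true := by decide +kernel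

theorem rows_ok_run432 : rangeAll (tab.rowOK cert 796902) 256 110336 = true := by decide +kernel

theorem rows_ok_run433 : rangeAll (tab.rowOK cert 796902) 256 110592 = true := by decide +kernel

theorem rows_ok_run434 : rangeAll (tab.rowOK cert 796902) 256 110848 = true := by decide +kernel

theorem rows_ok_run435 : rangeAll (tab.rowOK cert 796902) 256 111104 = true := by decide +kernel

theorem rows_ok_run436 : rangeAll (tab.rowOK cert 796902) 256 111360 = true := by decide +kernel

theorem rows_ok_run437 : rangeAll (tab.rowOK cert 796902) 256 111616 = true := by decide +kernel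

theorem rows_ok_run438 : rangeAll (tab.rowOK cert 796902) 256 111872 = true := by decide +kernel

theorem rows_ok_run439 : rangeAll (tab.rowOK cert 796902) 256 112128 = true := by decide +kernel

theorem rows_ok_run440 : rangeAll (tab.rowOK cert 796902) 256 112384 = true := by decide +kernel

theorem rows_ok_run441 : rangeAll (tab.rowOK cert 796902) 256 112640 = true := by decide +kernel

theorem rows_ok_run442 : rangeAll (tab.rowOK cert 796902) 256 112896 = true := by decide +kernel

theorem rows_ok_run443 : rangeAll (tab.rowOK cert 796902) 256 113152 = true := by decide +kernel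

theorem rows_ok_run444 : rangeAll (tab.rowOK cert 796902) 256 113408 = true := by decide +kernel

theorem rows_ok_run445 : rangeAll (tab.rowOK cert 796902) 256 113664 = true := by decide +kernel

theorem rows_ok_run446 : rangeAll (tab.rowOK cert 796902) 256 113920 = true := by decide +kernel

theorem rows_ok_run447 : rangeAll (tab.rowOK cert 796902) 256 114176 = true := by decide +kernel

theorem rows_ok_run448 : rangeAll (tab.rowOK cert 796902) 256 114432 = true := by decide +kernel

theorem rows_ok_run449 : rangeAll (tab.rowOK cert 796902) 256 114688 = true := by decide +kernel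

theorem rows_ok_run450 : rangeAll (tab.rowOK cert 796902) 256 114944 = true := by decide +kernel

theorem rows_ok_run451 : rangeAll (tab.rowOK cert 796902) 256 115200 = true := by decide +kernel

theorem rows_ok_run452 : rangeAll (tab.rowOK cert 796902) 256 115456 = true := by decide +kernel

theorem rows_ok_run453 : rangeAll (tab.rowOK cert 796902) 256 115712 = true := by decide +kernel

theorem rows_ok_run454 : rangeAll (tab.rowOK cert 796902) 256 115968 = true := by decide +kernel

theorem rows_ok_run455 : rangeAll (tab.rowOK cert 796902) 256 116224 = true := by decide +kernel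

theorem rows_ok_run456 : rangeAll (tab.rowOK cert 796902) 256 116480 = true := by decide +kernel

theorem rows_ok_run457 : rangeAll (tab.rowOK cert 796902) 256 116736 = true := by decide +kernel

theorem rows_ok_run458 : rangeAll (tab.rowOK cert 796902) 256 116992 = true := by decide +kernel

theorem rows_ok_run459 : rangeAll (tab.rowOK cert 796902) 256 117248 = true := by decide +kernel

theorem rows_ok_run460 : rangeAll (tab.rowOK cert 796902) 256 117504 = true := by decide +kernel

theorem rows_ok_run461 : rangeAll (tab.rowOK cert 796902) 256 117760 = true := by decide +kernel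

theorem rows_ok_run462 : rangeAll (tab.rowOK cert 796902) 256 118016 = true := by decide +kernel

theorem rows_ok_run463 : rangeAll (tab.rowOK cert 796902) 256 118272 = true := by decide +kernel

theorem rows_ok_run464 : rangeAll (tab.rowOK cert 796902) 256 118528 = true := by decide +kernel

theorem rows_ok_run465 : rangeAll (tab.rowOK cert 796902) 256 118784 = true := by decide +kernel

theorem rows_ok_run466 : rangeAll (tab.rowOK cert 796902) 256 119040 = true := by decide +kernel

theorem rows_ok_run467 : rangeAll (tab.rowOK cert 796902) 256 119296 = true := by decide +kernel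

theorem rows_ok_run468 : rangeAll (tab.rowOK cert 796902) 256 119552 = true := by decide +kernel

theorem rows_ok_run469 : rangeAll (tab.rowOK cert 796902) 256 119808 = true := by decide +kernel

theorem rows_ok_run470 : rangeAll (tab.rowOK cert 796902) 256 120064 = true := by decide +kernel

theorem rows_ok_run471 : rangeAll (tab.rowOK cert 796902) 256 120320 = true := by decide +kernel

theorem rows_ok_run472 : rangeAll (tab.rowOK cert 796902) 256 120576 = true := by decide +kernel

theorem rows_ok_run473 : rangeAll (tab.rowOK cert 796902) 256 120832 = true := by decide +kernel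

theorem rows_ok_run474 : rangeAll (tab.rowOK cert 796902) 256 121088 = true := by decide +kernel

theorem rows_ok_run475 : rangeAll (tab.rowOK cert 796902) 256 121344 = true := by decide +kernel

theorem rows_ok_run476 : rangeAll (tab.rowOK cert 796902) 256 121600 = true := by decide +kernel

theorem rows_ok_run477 : rangeAll (tab.rowOK cert 796902) 256 121856 = true := by decide +kernel

theorem rows_ok_run478 : rangeAll (tab.rowOK cert 796902) 256 122112 = true := by decide +kernel

theorem rows_ok_run479 : rangeAll (tab.rowOK cert 796902) 256 122368 = true := by decide +kernel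

theorem rows_ok_run480 : rangeAll (tab.rowOK cert 796902) 136 122624 = true := by decide +kernel

theorem rows_ok : Below (tab.rowOK cert 796902) 122760 :=
  ((((((((((((((((((((((((((((((((((((((((((((((((((((((((((((((((((((((((((((((((((((((((((((((((((((((((((((((((((((((((((((((((((((((((((((((((((((((((((((((((((((((((((((((((((((((((((((((((((((((((((((((((((((((((((((((((((((((((((((((((((((((((((((((((((((((((((((((((((((((((((((((((((((((((((((((((((((((((((((((((((((((((((((((((((((((((((((((((((((((((((((((((((((((((((((((((((((((((((((((((((((((((((((((((((((((((((((((((((((((((((((((((((((((((((((((((((((((((((((((((Below.zero _).step (b := 256) rows_ok_run1 rfl).step (b := 512) rows_ok_run2 rfl).step (b := 768) rows_ok_run3 rfl).step (b := 1024) rows_ok_run4 rfl).step (b := 1280) rows_ok_run5 rfl).step (b := 1536) rows_ok_run6 rfl).step (b := 1792) rows_ok_run7 rfl).step (b := 2048) rows_ok_run8 rfl).step (b := 2304) rows_ok_run9 rfl).step (b := 2560) rows_ok_run10 rfl).step (b := 2816) rows_ok_run11 rfl).step (b := 3072) rows_ok_run12 rfl).step (b := 3328) rows_ok_run13 rfl).step (b := 3584) rows_ok_run14 rfl).step (b :=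 3840) rows_ok_run15 rfl).step (b := 4096) rows_ok_run16 rfl).step (b := 4352) rows_ok_run17 rfl).step (b := 4608) rows_ok_run18 rfl).step (b := 4864) rows_ok_run19 rfl).step (b := 5120) rows_ok_run20 rfl).step (b := 5376) rows_ok_run21 rfl).step (b := 5632) rows_ok_run22 rfl).step (b := 5888) rows_ok_run23 rfl).step (b := 6144) rows_ok_run24 rfl).step (b := 6400) rows_ok_run25 rfl).step (b := 6656) rows_ok_run26 rfl).step (b := 6912) rows_ok_run27 rfl).step (b := 7168) rows_ok_run28 rfl).step (b := 7424) rows_ok_run29 rfl).step (b := 7680) rows_ok_run30 rfl).step (b := 7936) rows_ok_run31 rfl).step (b := 8192) rows_ok_run32 rfl).step (b := 8448) rows_ok_run33 rfl).step (b := 8704) rows_ok_run34 rfl).step (b := 8960) rows_ok_run35 rfl).step (b := 9216) rows_ok_run36 rfl).step (b := 9472) rows_ok_run37 rfl).step (b := 9728) rows_ok_run38 rfl).step (b := 9984) rows_ok_run39 rfl).step (b := 10240) rows_ok_run40 rfl).step (b := 10496) rows_ok_run41 rfl).step (b := 10752) rows_ok_run42 rfl).step (b := 11008) rows_ok_run43 rfl).step (b := 11264) rows_ok_run44 rfl).step (b := 11520) rows_ok_run45 rfl).step (b := 11776) rows_ok_run46 rfl).step (b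 := 12032) rows_ok_run47 rfl).step (b := 12288) rows_ok_run48 rfl).step (b := 12544) rows_ok_run49 rfl).step (b := 12800) rows_ok_run50 rfl).step (b := 13056) rows_ok_run51 rfl).step (b := 13312) rows_ok_run52 rfl).step (b := 13568) rows_ok_run53 rfl).step (b := 13824) rows_ok_run54 rfl).step (b := 14080) rows_ok_run55 rfl).step (b := 14336) rows_ok_run56 rfl).step (b := 14592) rows_ok_run57 rfl).step (b := 14848) rows_ok_run58 rfl).step (b := 15104) rows_ok_run59 rfl).step (b := 15360) rows_ok_run60 rfl).step (b := 15616) rows_ok_run61 rfl).step (b := 15872) rows_ok_run62 rfl).step (b := 16128) rows_ok_run63 rfl).step (b := 16384) rows_ok_run64 rfl).step (b := 16640) rows_ok_run65 rfl).step (b := 16896) rows_ok_run66 rfl).step (b := 17152) rows_ok_run67 rfl).step (b := 17408) rows_ok_run68 rfl).step (b := 17664) rows_ok_run69 rfl).step (b := 17920) rows_ok_run70 rfl).step (b := 18176) rows_ok_run71 rfl).step (b := 18432) rows_ok_run72 rfl).step (b := 18688) rows_ok_run73 rfl).step (b := 18944) rows_ok_run74 rfl).step (b := 19200) rows_ok_run75 rfl).step (b := 19456) rows_ok_run76 rfl).step (b := 19712) rows_ok_run77 rfl).step (b := 19968)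 rows_ok_run78 rfl).step (b := 20224) rows_ok_run79 rfl).step (b := 20480) rows_ok_run80 rfl).step (b := 20736) rows_ok_run81 rfl).step (b := 20992) rows_ok_run82 rfl).step (b := 21248) rows_ok_run83 rfl).step (b := 21504) rows_ok_run84 rfl).step (b := 21760) rows_ok_run85 rfl).step (b := 22016) rows_ok_run86 rfl).step (b := 22272) rows_ok_run87 rfl).step (b := 22528) rows_ok_run88 rfl).step (b := 22784) rows_ok_run89 rfl).step (b := 23040) rows_ok_run90 rfl).step (b := 23296) rows_ok_run91 rfl).step (b := 23552) rows_ok_run92 rfl).step (b := 23808) rows_ok_run93 rfl).step (b := 24064) rows_ok_run94 rfl).step (b := 24320) rows_ok_run95 rfl).step (b := 24576) rows_ok_run96 rfl).step (b := 24832) rows_ok_run97 rfl).step (b := 25088) rows_ok_run98 rfl).step (b := 25344) rows_ok_run99 rfl).step (b := 25600) rows_ok_run100 rfl).step (b := 25856) rows_ok_run101 rfl).step (b := 26112) rows_ok_run102 rfl).step (b := 26368) rows_ok_run103 rfl).step (b := 26624) rows_ok_run104 rfl).step (b := 26880) rows_ok_run105 rfl).step (b := 27136) rows_ok_run106 rfl).step (b := 27392) rows_ok_run107 rfl).step (b := 27648) rows_ok_run108 rfl).step (b := 27904)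 rows_ok_run109 rfl).step (b := 28160) rows_ok_run110 rfl).step (b := 28416) rows_ok_run111 rfl).step (b := 28672) rows_ok_run112 rfl).step (b := 28928) rows_ok_run113 rfl).step (b := 29184) rows_ok_run114 rfl).step (b := 29440) rows_ok_run115 rfl).step (b := 29696) rows_ok_run116 rfl).step (b := 29952) rows_ok_run117 rfl).step (b := 30208) rows_ok_run118 rfl).step (b := 30464) rows_ok_run119 rfl).step (b := 30720) rows_ok_run120 rfl).step (b := 30976) rows_ok_run121 rfl).step (b := 31232) rows_ok_run122 rfl).step (b := 31488) rows_ok_run123 rfl).step (b := 31744) rows_ok_run124 rfl).step (b := 32000) rows_ok_run125 rfl).step (b := 32256) rows_ok_run126 rfl).step (b := 32512) rows_ok_run127 rfl).step (b := 32768) rows_ok_run128 rfl).step (b := 33024) rows_ok_run129 rfl).step (b := 33280) rows_ok_run130 rfl).step (b := 33536) rows_ok_run131 rfl).step (b := 33792) rows_ok_run132 rfl).step (b := 34048) rows_ok_run133 rfl).step (b := 34304) rows_ok_run134 rfl).step (b := 34560) rows_ok_run135 rfl).step (b := 34816) rows_ok_run136 rfl).step (b := 35072) rows_ok_run137 rfl).step (b := 35328) rows_ok_run138 rfl).step (b := 35584) rows_ok_run139 rfl).step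 (b := 35840) rows_ok_run140 rfl).step (b := 36096) rows_ok_run141 rfl).step (b := 36352) rows_ok_run142 rfl).step (b := 36608) rows_ok_run143 rfl).step (b := 36864) rows_ok_run144 rfl).step (b := 37120) rows_ok_run145 rfl).step (b := 37376) rows_ok_run146 rfl).step (b := 37632) rows_ok_run147 rfl).step (b := 37888) rows_ok_run148 rfl).step (b := 38144) rows_ok_run149 rfl).step (b := 38400) rows_ok_run150 rfl).step (b := 38656) rows_ok_run151 rfl).step (b := 38912) rows_ok_run152 rfl).step (b := 39168) rows_ok_run153 rfl).step (b := 39424) rows_ok_run154 rfl).step (b := 39680) rows_ok_run155 rfl).step (b := 39936) rows_ok_run156 rfl).step (b := 40192) rows_ok_run157 rfl).step (b := 40448) rows_ok_run158 rfl).step (b := 40704) rows_ok_run159 rfl).step (b := 40960) rows_ok_run160 rfl).step (b := 41216) rows_ok_run161 rfl).step (b := 41472) rows_ok_run162 rfl).step (b := 41728) rows_ok_run163 rfl).step (b := 41984) rows_ok_run164 rfl).step (b := 42240) rows_ok_run165 rfl).step (b := 42496) rows_ok_run166 rfl).step (b := 42752) rows_ok_run167 rfl).step (b := 43008) rows_ok_run168 rfl).step (b := 43264) rows_ok_run169 rfl).step (b := 43520) rows_ok_run170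 rfl).step (b := 43776) rows_ok_run171 rfl).step (b := 44032) rows_ok_run172 rfl).step (b := 44288) rows_ok_run173 rfl).step (b := 44544) rows_ok_run174 rfl).step (b := 44800) rows_ok_run175 rfl).step (b := 45056) rows_ok_run176 rfl).step (b := 45312) rows_ok_run177 rfl).step (b := 45568) rows_ok_run178 rfl).step (b := 45824) rows_ok_run179 rfl).step (b := 46080) rows_ok_run180 rfl).step (b := 46336) rows_ok_run181 rfl).step (b := 46592) rows_ok_run182 rfl).step (b := 46848) rows_ok_run183 rfl).step (b := 47104) rows_ok_run184 rfl).step (b := 47360) rows_ok_run185 rfl).step (b := 47616) rows_ok_run186 rfl).step (b := 47872) rows_ok_run187 rfl).step (b := 48128) rows_ok_run188 rfl).step (b := 48384) rows_ok_run189 rfl).step (b := 48640) rows_ok_run190 rfl).step (b := 48896) rows_ok_run191 rfl).step (b := 49152) rows_ok_run192 rfl).step (b := 49408) rows_ok_run193 rfl).step (b := 49664) rows_ok_run194 rfl).step (b := 49920) rows_ok_run195 rfl).step (b := 50176) rows_ok_run196 rfl).step (b := 50432) rows_ok_run197 rfl).step (b := 50688) rows_ok_run198 rfl).step (b := 50944) rows_ok_run199 rfl).step (b := 51200) rows_ok_run200 rfl).step (b :=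 51456) rows_ok_run201 rfl).step (b := 51712) rows_ok_run202 rfl).step (b := 51968) rows_ok_run203 rfl).step (b := 52224) rows_ok_run204 rfl).step (b := 52480) rows_ok_run205 rfl).step (b := 52736) rows_ok_run206 rfl).step (b := 52992) rows_ok_run207 rfl).step (b := 53248) rows_ok_run208 rfl).step (b := 53504) rows_ok_run209 rfl).step (b := 53760) rows_ok_run210 rfl).step (b := 54016) rows_ok_run211 rfl).step (b := 54272) rows_ok_run212 rfl).step (b := 54528) rows_ok_run213 rfl).step (b := 54784) rows_ok_run214 rfl).step (b := 55040) rows_ok_run215 rfl).step (b := 55296) rows_ok_run216 rfl).step (b := 55552) rows_ok_run217 rfl).step (b := 55808) rows_ok_run218 rfl).step (b := 56064) rows_ok_run219 rfl).step (b := 56320) rows_ok_run220 rfl).step (b := 56576) rows_ok_run221 rfl).step (b := 56832) rows_ok_run222 rfl).step (b := 57088) rows_ok_run223 rfl).step (b := 57344) rows_ok_run224 rfl).step (b := 57600) rows_ok_run225 rfl).step (b := 57856) rows_ok_run226 rfl).step (b := 58112) rows_ok_run227 rfl).step (b := 58368) rows_ok_run228 rfl).step (b := 58624) rows_ok_run229 rfl).step (b := 58880) rows_ok_run230 rfl).step (b := 59136) rows_ok_run231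 rfl).step (b := 59392) rows_ok_run232 rfl).step (b := 59648) rows_ok_run233 rfl).step (b := 59904) rows_ok_run234 rfl).step (b := 60160) rows_ok_run235 rfl).step (b := 60416) rows_ok_run236 rfl).step (b := 60672) rows_ok_run237 rfl).step (b := 60928) rows_ok_run238 rfl).step (b := 61184) rows_ok_run239 rfl).step (b := 61440) rows_ok_run240 rfl).step (b := 61696) rows_ok_run241 rfl).step (b := 61952) rows_ok_run242 rfl).step (b := 62208) rows_ok_run243 rfl).step (b := 62464) rows_ok_run244 rfl).step (b := 62720) rows_ok_run245 rfl).step (b := 62976) rows_ok_run246 rfl).step (b := 63232) rows_ok_run247 rfl).step (b := 63488) rows_ok_run248 rfl).step (b := 63744) rows_ok_run249 rfl).step (b := 64000) rows_ok_run250 rfl).step (b := 64256) rows_ok_run251 rfl).step (b := 64512) rows_ok_run252 rfl).step (b := 64768) rows_ok_run253 rfl).step (b := 65024) rows_ok_run254 rfl).step (b := 65280) rows_ok_run255 rfl).step (b := 65536) rows_ok_run256 rfl).step (b := 65792) rows_ok_run257 rfl).step (b := 66048) rows_ok_run258 rfl).step (b := 66304) rows_ok_run259 rfl).step (b := 66560) rows_ok_run260 rfl).step (b := 66816) rows_ok_run261 rfl).step (b :=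 67072) rows_ok_run262 rfl).step (b := 67328) rows_ok_run263 rfl).step (b := 67584) rows_ok_run264 rfl).step (b := 67840) rows_ok_run265 rfl).step (b := 68096) rows_ok_run266 rfl).step (b := 68352) rows_ok_run267 rfl).step (b := 68608) rows_ok_run268 rfl).step (b := 68864) rows_ok_run269 rfl).step (b := 69120) rows_ok_run270 rfl).step (b := 69376) rows_ok_run271 rfl).step (b := 69632) rows_ok_run272 rfl).step (b := 69888) rows_ok_run273 rfl).step (b := 70144) rows_ok_run274 rfl).step (b := 70400) rows_ok_run275 rfl).step (b := 70656) rows_ok_run276 rfl).step (b := 70912) rows_ok_run277 rfl).step (b := 71168) rows_ok_run278 rfl).step (b := 71424) rows_ok_run279 rfl).step (b := 71680) rows_ok_run280 rfl).step (b := 71936) rows_ok_run281 rfl).step (b := 72192) rows_ok_run282 rfl).step (b := 72448) rows_ok_run283 rfl).step (b := 72704) rows_ok_run284 rfl).step (b := 72960) rows_ok_run285 rfl).step (b := 73216) rows_ok_run286 rfl).step (b := 73472) rows_ok_run287 rfl).step (b := 73728) rows_ok_run288 rfl).step (b := 73984) rows_ok_run289 rfl).step (b := 74240) rows_ok_run290 rfl).step (b := 74496) rows_ok_run291 rfl).step (b := 74752) rows_ok_run292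 rfl).step (b := 75008) rows_ok_run293 rfl).step (b := 75264) rows_ok_run294 rfl).step (b := 75520) rows_ok_run295 rfl).step (b := 75776) rows_ok_run296 rfl).step (b := 76032) rows_ok_run297 rfl).step (b := 76288) rows_ok_run298 rfl).step (b := 76544) rows_ok_run299 rfl).step (b := 76800) rows_ok_run300 rfl).step (b := 77056) rows_ok_run301 rfl).step (b := 77312) rows_ok_run302 rfl).step (b := 77568) rows_ok_run303 rfl).step (b := 77824) rows_ok_run304 rfl).step (b := 78080) rows_ok_run305 rfl).step (b := 78336) rows_ok_run306 rfl).step (b := 78592) rows_ok_run307 rfl).step (b := 78848) rows_ok_run308 rfl).step (b := 79104) rows_ok_run309 rfl).step (b := 79360) rows_ok_run310 rfl).step (b := 79616) rows_ok_run311 rfl).step (b := 79872) rows_ok_run312 rfl).step (b := 80128) rows_ok_run313 rfl).step (b := 80384) rows_ok_run314 rfl).step (b := 80640) rows_ok_run315 rfl).step (b := 80896) rows_ok_run316 rfl).step (b := 81152) rows_ok_run317 rfl).step (b := 81408) rows_ok_run318 rfl).step (b := 81664) rows_ok_run319 rfl).step (b := 81920) rows_ok_run320 rfl).step (b := 82176) rows_ok_run321 rfl).step (b := 82432) rows_ok_run322 rfl).step (b :=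 82688) rows_ok_run323 rfl).step (b := 82944) rows_ok_run324 rfl).step (b := 83200) rows_ok_run325 rfl).step (b := 83456) rows_ok_run326 rfl).step (b := 83712) rows_ok_run327 rfl).step (b := 83968) rows_ok_run328 rfl).step (b := 84224) rows_ok_run329 rfl).step (b := 84480) rows_ok_run330 rfl).step (b := 84736) rows_ok_run331 rfl).step (b := 84992) rows_ok_run332 rfl).step (b := 85248) rows_ok_run333 rfl).step (b := 85504) rows_ok_run334 rfl).step (b := 85760) rows_ok_run335 rfl).step (b := 86016) rows_ok_run336 rfl).step (b := 86272) rows_ok_run337 rfl).step (b := 86528) rows_ok_run338 rfl).step (b := 86784) rows_ok_run339 rfl).step (b := 87040) rows_ok_run340 rfl).step (b := 87296) rows_ok_run341 rfl).step (b := 87552) rows_ok_run342 rfl).step (b := 87808) rows_ok_run343 rfl).step (b := 88064) rows_ok_run344 rfl).step (b := 88320) rows_ok_run345 rfl).step (b := 88576) rows_ok_run346 rfl).step (b := 88832) rows_ok_run347 rfl).step (b := 89088) rows_ok_run348 rfl).step (b := 89344) rows_ok_run349 rfl).step (b := 89600) rows_ok_run350 rfl).step (b := 89856) rows_ok_run351 rfl).step (b := 90112) rows_ok_run352 rfl).step (b := 90368) rows_ok_run353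 rfl).step (b := 90624) rows_ok_run354 rfl).step (b := 90880) rows_ok_run355 rfl).step (b := 91136) rows_ok_run356 rfl).step (b := 91392) rows_ok_run357 rfl).step (b := 91648) rows_ok_run358 rfl).step (b := 91904) rows_ok_run359 rfl).step (b := 92160) rows_ok_run360 rfl).step (b := 92416) rows_ok_run361 rfl).step (b := 92672) rows_ok_run362 rfl).step (b := 92928) rows_ok_run363 rfl).step (b := 93184) rows_ok_run364 rfl).step (b := 93440) rows_ok_run365 rfl).step (b := 93696) rows_ok_run366 rfl).step (b := 93952) rows_ok_run367 rfl).step (b := 94208) rows_ok_run368 rfl).step (b := 94464) rows_ok_run369 rfl).step (b := 94720) rows_ok_run370 rfl).step (b := 94976) rows_ok_run371 rfl).step (b := 95232) rows_ok_run372 rfl).step (b := 95488) rows_ok_run373 rfl).step (b := 95744) rows_ok_run374 rfl).step (b := 96000) rows_ok_run375 rfl).step (b := 96256) rows_ok_run376 rfl).step (b := 96512) rows_ok_run377 rfl).step (b := 96768) rows_ok_run378 rfl).step (b := 97024) rows_ok_run379 rfl).step (b := 97280) rows_ok_run380 rfl).step (b := 97536) rows_ok_run381 rfl).step (b := 97792) rows_ok_run382 rfl).step (b := 98048) rows_ok_run383 rfl).step (b :=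 98304) rows_ok_run384 rfl).step (b := 98560) rows_ok_run385 rfl).step (b := 98816) rows_ok_run386 rfl).step (b := 99072) rows_ok_run387 rfl).step (b := 99328) rows_ok_run388 rfl).step (b := 99584) rows_ok_run389 rfl).step (b := 99840) rows_ok_run390 rfl).step (b := 100096) rows_ok_run391 rfl).step (b := 100352) rows_ok_run392 rfl).step (b := 100608) rows_ok_run393 rfl).step (b := 100864) rows_ok_run394 rfl).step (b := 101120) rows_ok_run395 rfl).step (b := 101376) rows_ok_run396 rfl).step (b := 101632) rows_ok_run397 rfl).step (b := 101888) rows_ok_run398 rfl).step (b := 102144) rows_ok_run399 rfl).step (b := 102400) rows_ok_run400 rfl).step (b := 102656) rows_ok_run401 rfl).step (b := 102912) rows_ok_run402 rfl).step (b := 103168) rows_ok_run403 rfl).step (b := 103424) rows_ok_run404 rfl).step (b := 103680) rows_ok_run405 rfl).step (b := 103936) rows_ok_run406 rfl).step (b := 104192) rows_ok_run407 rfl).step (b := 104448) rows_ok_run408 rfl).step (b := 104704) rows_ok_run409 rfl).step (b := 104960) rows_ok_run410 rfl).step (b := 105216) rows_ok_run411 rfl).step (b := 105472) rows_ok_run412 rfl).step (b := 105728) rows_ok_run413 rfl).step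 (b := 105984) rows_ok_run414 rfl).step (b := 106240) rows_ok_run415 rfl).step (b := 106496) rows_ok_run416 rfl).step (b := 106752) rows_ok_run417 rfl).step (b := 107008) rows_ok_run418 rfl).step (b := 107264) rows_ok_run419 rfl).step (b := 107520) rows_ok_run420 rfl).step (b := 107776) rows_ok_run421 rfl).step (b := 108032) rows_ok_run422 rfl).step (b := 108288) rows_ok_run423 rfl).step (b := 108544) rows_ok_run424 rfl).step (b := 108800) rows_ok_run425 rfl).step (b := 109056) rows_ok_run426 rfl).step (b := 109312) rows_ok_run427 rfl).step (b := 109568) rows_ok_run428 rfl).step (b := 109824) rows_ok_run429 rfl).step (b := 110080) rows_ok_run430 rfl).step (b := 110336) rows_ok_run431 rfl).step (b := 110592) rows_ok_run432 rfl).step (b := 110848) rows_ok_run433 rfl).step (b := 111104) rows_ok_run434 rfl).step (b := 111360) rows_ok_run435 rfl).step (b := 111616) rows_ok_run436 rfl).step (b := 111872) rows_ok_run437 rfl).step (b := 112128) rows_ok_run438 rfl).step (b := 112384) rows_ok_run439 rfl).step (b := 112640) rows_ok_run440 rfl).step (b := 112896) rows_ok_run441 rfl).step (b := 113152) rows_ok_run442 rfl).step (b := 113408) rows_ok_run443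 rfl).step (b := 113664) rows_ok_run444 rfl).step (b := 113920) rows_ok_run445 rfl).step (b := 114176) rows_ok_run446 rfl).step (b := 114432) rows_ok_run447 rfl).step (b := 114688) rows_ok_run448 rfl).step (b := 114944) rows_ok_run449 rfl).step (b := 115200) rows_ok_run450 rfl).step (b := 115456) rows_ok_run451 rfl).step (b := 115712) rows_ok_run452 rfl).step (b := 115968) rows_ok_run453 rfl).step (b := 116224) rows_ok_run454 rfl).step (b := 116480) rows_ok_run455 rfl).step (b := 116736) rows_ok_run456 rfl).step (b := 116992) rows_ok_run457 rfl).step (b := 117248) rows_ok_run458 rfl).step (b := 117504) rows_ok_run459 rfl).step (b := 117760) rows_ok_run460 rfl).step (b := 118016) rows_ok_run461 rfl).step (b := 118272) rows_ok_run462 rfl).step (b := 118528) rows_ok_run463 rfl).step (b := 118784) rows_ok_run464 rfl).step (b := 119040) rows_ok_run465 rfl).step (b := 119296) rows_ok_run466 rfl).step (b := 119552) rows_ok_run467 rfl).step (b := 119808) rows_ok_run468 rfl).step (b := 120064) rows_ok_run469 rfl).step (b := 120320) rows_ok_run470 rfl).step (b := 120576) rows_ok_run471 rfl).step (b := 120832) rows_ok_run472 rfl).step (b := 121088) rows_ok_run473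 rfl).step (b := 121344) rows_ok_run474 rfl).step (b := 121600) rows_ok_run475 rfl).step (b := 121856) rows_ok_run476 rfl).step (b := 122112) rows_ok_run477 rfl).step (b := 122368) rows_ok_run478 rfl).step (b := 122624) rows_ok_run479 rfl).step (b := 122760) rows_ok_run480 rfl

end Cfsg.Agent.Lib.CosetTable.ON122760
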